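import Cfsg.Agent.Lib.TensorOrthMax.Side
import Cfsg.Agent.Lib.Subspaces.SympCenters
import Cfsg.Agent.Lib.Symplectic.Form

/-!
Tensors of an alternating and a three-dimensional symmetric form: contraction by a vector of the first factor and
the root elements `z ↦ z + b ⊗ A (Φ_b z)` of an overgroup of the tensor product stabiliser.
-/

set_option autoImplicit false

namespace Cfsg.Agent.Lib.GeomSmallSp.OrthThree.Basic

open Matrix Kronecker
open Cfsg.Agent.Lib.Subspaces.Transvection Cfsg.Agent.Lib.Subspaces.FormVec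
  Cfsg.Agent.Lib.TensorMax.Block Cfsg.Agent.Lib.TensorMax.Lemmas Cfsg.Agent.Lib.TensorFormMax.Basic
  Cfsg.Agent.Lib.TensorOrthMax.Side

variable {F : Type*} [Field F] {n : ℕ}

local notation "V1" => Fin n → F
local notation "V2" => Fin 3 → F
local notation "Vec" => Fin n × Fin 3 → F
local notation "Big" => Matrix (Fin n × Fin 3) (Fin n × Fin 3) F
local notation "G" => GL (Fin n × Fin 3) F

/-- An overgroup of the stabiliser of the tensor product inside the isometry group. -/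
structure Data (f₁ : (Fin n → F) → (Fin n → F) → F) (f₂ : (Fin 3 → F) → (Fin 3 → F) → F)
    (B : (Fin n × Fin 3 → F) → (Fin n × Fin 3 → F) → F) (M : Subgroup (GL (Fin n × Fin 3) F)) : Prop where
  h1 : Cfsg.Geo.IsSymplecticForm f₁
  sym : Sym f₂
  lin : IsLinearLeft B
  addR : ∀ x y z, B x (y + z) = B x y + B x z
  Bswap : ∀ x y, B y x = -B x y
  hB : ∀ z u w, B z (tens u w) = f₁ (ctr (formVec f₂ w) z) u
  iso : ∀ g ∈ M, ∀ x y, B ((g : Big) *ᵥ x) ((g : Big) *ᵥ y) = B x y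
  stab : ∀ g : GL (Fin n × Fin 3) F, g ∈ Cfsg.Geo.kroneckerSubgroup n 3 F →
    (∀ x y, B ((g : Big) *ᵥ x) ((g : Big) *ᵥ y) = B x y) → g ∈ M
  hn : 2 ≤ n

/-- The column of a tensor at a coordinate of the second factor. -/
def col (z : Fin n × Fin 3 → F) (a : Fin 3) : Fin n → F := fun i => z (i, a)

/-- Contraction of the first factor by `f₁ · b`. -/
def phi (f₁ : (Fin n → F) → (Fin n → F) → F) (b : Fin n → F) (z : Fin n × Fin 3 → F) : Fin 3 → F :=
  fun a => f₁ (col z a) b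

/-- The element `z ↦ z + b ⊗ A (Φ_b z)` lies in `M`. -/
def InR (f₁ : (Fin n → F) → (Fin n → F) → F) (M : Subgroup (GL (Fin n × Fin 3) F)) (b : Fin n → F)
    (A : (Fin 3 → F) →ₗ[F] (Fin 3 → F)) : Prop :=
  ∃ g ∈ M, ∀ z, (g : Big) *ᵥ z = z + tens b (A (phi f₁ b z))

theorem lin_eq_of_tens {W : Type*} [AddCommGroup W] [Module F W] {S T : Vec →ₗ[F] W}
    (h : ∀ u w, S (tens u w) = T (tens u w)) : S = T := by
  refine LinearMap.ext fun z => ?_
  rw [← sum_tens_slice z, map_sum, map_sum]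
  exact Finset.sum_congr rfl fun i _ => h _ _

theorem mulVec_eq_of_tens {S T : Big} (h : ∀ u w, S *ᵥ tens u w = T *ᵥ tens u w) (z : Vec) : S *ᵥ z = T *ᵥ z :=
  LinearMap.congr_fun (lin_eq_of_tens (S := S.mulVecLin) (T := T.mulVecLin) h) z

theorem col_tens (u : V1) (w : V2) (a : Fin 3) : col (tens u w) a = w a • u :=
  funext fun i => mul_comm (u i) (w a)

theorem col_add (x y : Vec) (a : Fin 3) : col (x + y) a = col x a + col y a := rfl

theorem col_smul (c : F) (x : Vec) (a : Fin 3) : col (c • x) a = c • col x a := rfl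

theorem sum_tens_col (z : Vec) : ∑ a, tens (col z a) (Pi.single a 1) = z := by
  ext ⟨i, a⟩
  simp [Finset.sum_apply, tens, col, Pi.single_apply]

theorem tens_eq_tens {u : V1} (hu : u ≠ 0) {w w' : V2} (h : tens u w = tens u w') : w = w' := by
  obtain ⟨i, hi⟩ := Function.ne_iff.1 hu
  exact funext fun a => mul_left_cancel₀ hi (congrFun h (i, a))

theorem tens_ne_zero {u : V1} (hu : u ≠ 0) {w : V2} (hw : w ≠ 0) : tens u w ≠ 0 := fun h =>
  hw (tens_eq_tens hu (h.trans (tens_zero_right u).symm))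

/-- Tensoring with a fixed vector of the first factor. -/
def tensL (u : Fin n → F) : (Fin 3 → F) →ₗ[F] (Fin n × Fin 3 → F) where
  toFun := fun w => tens u w
  map_add' := tens_add_right u
  map_smul' := fun c w => tens_smul_right c u w

theorem tensL_apply (u : V1) (w : V2) : tensL u w = tens u w := rfl

variable {f₁ : (Fin n → F) → (Fin n → F) → F} {f₂ : (Fin 3 → F) → (Fin 3 → F) → F}
  {B : (Fin n × Fin 3 → F) → (Fin n × Fin 3 → F) → F} {M : Subgroup (GL (Fin n × Fin 3) F)}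

namespace Data

variable (D : Data f₁ f₂ B M)
include D

theorem addL₁ (x y u : V1) : f₁ (x + y) u = f₁ x u + f₁ y u := D.h1.bilinear.add_left _ _ _

theorem smulL₁ (c : F) (x u : V1) : f₁ (c • x) u = c * f₁ x u := D.h1.bilinear.smul_left _ _ _

theorem addR₁ (x u v : V1) : f₁ x (u + v) = f₁ x u + f₁ x v := D.h1.bilinear.add_right _ _ _

theorem smulR₁ (c : F) (x u : V1) : f₁ x (c • u) = c * f₁ x u := D.h1.bilinear.smul_right _ _ _

theorem zeroL₁ (u : V1) : f₁ 0 u = 0 := form_zero_left (isLinearLeft_of_bilinear D.h1.bilinear) u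

theorem zeroR₁ (u : V1) : f₁ u 0 = 0 := Cfsg.Agent.Lib.Subspaces.SympGen.zero_right D.h1 u

theorem subL₁ (x y u : V1) : f₁ (x - y) u = f₁ x u - f₁ y u :=
  form_sub_left (isLinearLeft_of_bilinear D.h1.bilinear) _ _ _

theorem subR₁ (x y u : V1) : f₁ x (y - u) = f₁ x y - f₁ x u := by
  rw [eq_sub_iff_add_eq, ← D.addR₁, sub_add_cancel]

theorem negR₁ (x y : V1) : f₁ x (-y) = -f₁ x y := by rw [← neg_one_smul F y, D.smulR₁, neg_one_mul]

theorem exists_partner {b : V1} (hb : b ≠ 0) : ∃ a : V1, f₁ a b = 1 := by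
  obtain ⟨⟨x, hx⟩, -⟩ := D.h1.nondegenerate b hb
  exact ⟨(f₁ x b)⁻¹ • x, by rw [D.smulL₁, inv_mul_cancel₀ hx]⟩

theorem exists_nonzero : ∃ b : V1, b ≠ 0 :=
  ⟨Pi.single ⟨0, by have := D.hn; omega⟩ 1, by simp⟩

theorem phi_tens (b u : V1) (w : V2) : phi f₁ b (tens u w) = f₁ u b • w :=
  funext fun a => by rw [phi, col_tens, D.smulL₁, Pi.smul_apply, smul_eq_mul, mul_comm]

theorem phi_add (b : V1) (x y : Vec) : phi f₁ b (x + y) = phi f₁ b x + phi f₁ b y :=
  funext fun a => by rw [phi, col_add, D.addL₁]; rfl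

theorem phi_smul (b : V1) (c : F) (x : Vec) : phi f₁ b (c • x) = c • phi f₁ b x :=
  funext fun a => by rw [phi, col_smul, D.smulL₁]; rfl

theorem phi_zero (b : V1) : phi f₁ b (0 : Vec) = 0 := by
  rw [← zero_smul F (0 : Vec), D.phi_smul, zero_smul]

theorem phi_sub (b : V1) (x y : Vec) : phi f₁ b (x - y) = phi f₁ b x - phi f₁ b y := by
  rw [eq_sub_iff_add_eq, ← D.phi_add, sub_add_cancel]

theorem phi_neg (b : V1) (x : Vec) : phi f₁ b (-x) = -phi f₁ b x := by
  rw [← neg_one_smul F x, D.phi_smul, neg_one_smul]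

theorem phi_addC (b c : V1) (z : Vec) : phi f₁ (b + c) z = phi f₁ b z + phi f₁ c z :=
  funext fun a => D.addR₁ _ _ _

theorem phi_smulC (r : F) (b : V1) (z : Vec) : phi f₁ (r • b) z = r • phi f₁ b z :=
  funext fun a => D.smulR₁ _ _ _

/-- The contraction as a linear map. -/
def phiL (b : Fin n → F) : (Fin n × Fin 3 → F) →ₗ[F] (Fin 3 → F) where
  toFun := phi f₁ b
  map_add' := D.phi_add b
  map_smul' := D.phi_smul b

theorem phiL_apply (b : V1) (z : Vec) : D.phiL b z = phi f₁ b z := rfl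

theorem B_tens_right (z : Vec) (b : V1) (w : V2) : B z (tens b w) = f₂ (phi f₁ b z) w := by
  rw [D.hB]
  conv_lhs => rw [← sum_tens_col z]
  let L : Vec →+ F := AddMonoidHom.mk' (fun x => f₁ (ctr (formVec f₂ w) x) b) fun x y => by rw [ctr_add, D.addL₁]
  show L _ = _
  rw [map_sum, ← D.sym.dot, dotProduct]
  refine Finset.sum_congr rfl fun a _ => ?_
  show f₁ (ctr (formVec f₂ w) (tens (col z a) (Pi.single a 1))) b = formVec f₂ w a * f₁ (col z a) b
  rw [ctr_tens, D.smulL₁, dotProduct_single, mul_one]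

theorem phi_ext {z : Vec} (h : ∀ b, phi f₁ b z = 0) : z = 0 := by
  funext p
  have hc : col z p.2 = 0 := by
    by_contra hne
    obtain ⟨-, x, hx⟩ := D.h1.nondegenerate _ hne
    exact hx (congrFun (h x) p.2)
  exact congrFun hc p.1

theorem eq_left₂ {x y : V2} (h : ∀ w, f₂ x w = f₂ y w) : x = y := D.sym.sf.eq_of_left h

theorem B_symp : Cfsg.Geo.IsSymplecticForm B := by
  have halt : ∀ v, B v v = 0 := fun v => by
    have h := D.Bswap v v
    have h2 : (2 : F) * B v v = 0 := by linear_combination h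
    exact (mul_eq_zero.1 h2).resolve_left D.sym.two
  refine ⟨⟨D.lin.add_left, D.lin.smul_left, fun v x y => D.addR v x y, fun c v x => ?_⟩,
    fun v w => D.Bswap w v, halt, fun v hv => ?_⟩
  · rw [D.Bswap (c • x) v, D.lin.smul_left, D.Bswap x v]; ring
  · obtain ⟨b, hb⟩ : ∃ b, phi f₁ b v ≠ 0 := not_forall.1 fun h => hv (D.phi_ext h)
    obtain ⟨w, hw⟩ := D.sym.sf.nondeg _ hb
    have hne : B v (tens b w) ≠ 0 := by rwa [D.B_tens_right, D.sym.comm]
    exact ⟨⟨tens b w, by rwa [D.Bswap v (tens b w), neg_ne_zero]⟩, ⟨tens b w, hne⟩⟩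

/-- The big form as a bilinear map. -/
noncomputable def bil : (Fin n × Fin 3 → F) →ₗ[F] (Fin n × Fin 3 → F) →ₗ[F] F :=
  Cfsg.Agent.Lib.Subspaces.SympGen.toBilin D.B_symp

theorem bil_apply (x y : Vec) : D.bil x y = B x y := rfl

theorem B_tens (u v : V1) (w x : V2) : B (tens u w) (tens v x) = f₁ u v * f₂ w x := by
  rw [D.B_tens_right, D.phi_tens, D.sym.smulL]

theorem B_sub_left' (x y z : Vec) : B (x - y) z = B x z - B y z := form_sub_left D.lin x y z

theorem B_ext {x y : Vec} (h : ∀ b w, B x (tens b w) = B y (tens b w)) : x = y := by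
  refine sub_eq_zero.1 (D.phi_ext fun b => ?_)
  rw [D.phi_sub, sub_eq_zero]
  exact D.eq_left₂ fun w => by rw [← D.B_tens_right, ← D.B_tens_right, h]

/-- An isometry of a factor given as a linear map is invertible. -/
theorem exists_gl₁ (α : V1 →ₗ[F] V1) (hα : ∀ x y, f₁ (α x) (α y) = f₁ x y) :
    ∃ a : GL (Fin n) F, ∀ x, (a : Matrix (Fin n) (Fin n) F) *ᵥ x = α x := by
  have hinj : Function.Injective α := by
    rw [injective_iff_map_eq_zero]
    intro x hx
    by_contra hne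
    obtain ⟨-, y, hy⟩ := D.h1.nondegenerate x hne
    exact hy (by rw [← hα, hx, D.zeroL₁])
  have hmv : ∀ x, LinearMap.toMatrix' α *ᵥ x = α x := fun x => LinearMap.toMatrix'_mulVec α x
  obtain ⟨a, ha⟩ : IsUnit (LinearMap.toMatrix' α) := by
    rw [← Matrix.mulVec_injective_iff_isUnit]
    intro x y h
    simp only [hmv] at h
    exact hinj h
  exact ⟨a, fun x => by rw [ha, hmv]⟩

theorem exists_gl₂ (o : V2 →ₗ[F] V2) (ho : ∀ x y, f₂ (o x) (o y) = f₂ x y) :
    ∃ a : GL (Fin 3) F, ∀ x, (a : Matrix (Fin 3) (Fin 3) F) *ᵥ x = o x := by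
  have hinj : Function.Injective o := by
    rw [injective_iff_map_eq_zero]
    intro x hx
    refine D.sym.eq_zero fun u => ?_
    rw [← ho, hx, D.sym.zeroR]
  have hmv : ∀ x, LinearMap.toMatrix' o *ᵥ x = o x := fun x => LinearMap.toMatrix'_mulVec o x
  obtain ⟨a, ha⟩ : IsUnit (LinearMap.toMatrix' o) := by
    rw [← Matrix.mulVec_injective_iff_isUnit]
    intro x y h
    simp only [hmv] at h
    exact hinj h
  exact ⟨a, fun x => by rw [ha, hmv]⟩

/-- The elements of the stabiliser. -/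
theorem exists_move (α : V1 →ₗ[F] V1) (o : V2 →ₗ[F] V2) (hα : ∀ x y, f₁ (α x) (α y) = f₁ x y)
    (ho : ∀ x y, f₂ (o x) (o y) = f₂ x y) :
    ∃ g ∈ M, g ∈ Cfsg.Geo.kroneckerSubgroup n 3 F ∧ ∀ u w, (g : Big) *ᵥ tens u w = tens (α u) (o w) := by
  obtain ⟨a, ha⟩ := D.exists_gl₁ α hα
  obtain ⟨c, hc⟩ := D.exists_gl₂ o ho
  have hT : ∀ u w, (kronGL a c : Big) *ᵥ tens u w = tens (α u) (o w) := fun u w => by
    show ((a : Matrix (Fin n) (Fin n) F) ⊗ₖ (c : Matrix (Fin 3) (Fin 3) F)) *ᵥ _ = _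
    rw [kron_mulVec_tens, ha, hc]
  refine ⟨_, D.stab _ (kronGL_mem a c) ?_, kronGL_mem a c, hT⟩
  let K := (kronGL a c : Big).mulVecLin
  have e : D.bil.compl₁₂ K K = D.bil := by
    refine lin_eq_of_tens fun u w => lin_eq_of_tens fun v x => ?_
    show B ((kronGL a c : Big) *ᵥ tens u w) ((kronGL a c : Big) *ᵥ tens v x) = B (tens u w) (tens v x)
    rw [hT, hT, D.B_tens, D.B_tens, hα, ho]
  exact fun x y => LinearMap.congr_fun (LinearMap.congr_fun e x) y

theorem isometry_inv {g : G} (hg : g ∈ M) (x y : Vec) :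
    B ((g : Big) *ᵥ x) y = B x (((g⁻¹ : G) : Big) *ᵥ y) := by
  conv_lhs => rw [← gl_mulVec_inv g y, D.iso g hg]

/-- An isometry carrying one block into another transforms the contraction. -/
theorem phi_map {g : G} (hg : g ∈ M) {a c : V1} {C : V2 → V2}
    (h : ∀ w, (g : Big) *ᵥ tens a w = tens c (C w)) (z : Vec) (w : V2) :
    f₂ (phi f₁ c ((g : Big) *ᵥ z)) (C w) = f₂ (phi f₁ a z) w := by
  rw [← D.B_tens_right, ← h, D.iso g hg, D.B_tens_right]

theorem phi_move {g : G} (hg : g ∈ M) {α : V1 →ₗ[F] V1} {o : V2 →ₗ[F] V2} (ho : ∀ x y, f₂ (o x) (o y) = f₂ x y)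
    (h : ∀ u w, (g : Big) *ᵥ tens u w = tens (α u) (o w)) (b : V1) (z : Vec) :
    phi f₁ (α b) ((g : Big) *ᵥ z) = o (phi f₁ b z) := by
  have hsurj : Function.Surjective o := by
    refine LinearMap.surjective_of_injective ?_
    rw [injective_iff_map_eq_zero]
    intro x hx
    exact D.sym.eq_zero fun u => by rw [← ho, hx, D.sym.zeroR]
  refine D.eq_left₂ fun w => ?_
  obtain ⟨w, rfl⟩ := hsurj w
  rw [D.phi_map hg (fun w => h b w), ho]

theorem phi_self (b : V1) (w : V2) : phi f₁ b (tens b w) = 0 := by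
  rw [D.phi_tens, D.h1.alternating, zero_smul]

theorem inR_add {b : V1} {A A' : V2 →ₗ[F] V2} (h : InR f₁ M b A) (h' : InR f₁ M b A') : InR f₁ M b (A + A') := by
  obtain ⟨g, hg, hgz⟩ := h
  obtain ⟨g', hg', hg'z⟩ := h'
  refine ⟨g * g', M.mul_mem hg hg', fun z => ?_⟩
  rw [gl_mul_mulVec, hg'z, hgz, D.phi_add, D.phi_self, add_zero, LinearMap.add_apply, tens_add_right]
  abel

theorem inR_neg {b : V1} {A : V2 →ₗ[F] V2} (h : InR f₁ M b A) : InR f₁ M b (-A) := by
  obtain ⟨g, hg, hgz⟩ := h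
  refine ⟨g⁻¹, M.inv_mem hg, fun z => gl_mulVec_injective g ?_⟩
  show (g : Big) *ᵥ _ = (g : Big) *ᵥ _
  rw [gl_mulVec_inv, hgz, D.phi_add, D.phi_self, add_zero, LinearMap.neg_apply, add_assoc, ← tens_add_right,
    neg_add_cancel, tens_zero_right, add_zero]

theorem inR_conj {b : V1} {A : V2 →ₗ[F] V2} (h : InR f₁ M b A) {g : G} (hg : g ∈ M) {α : V1 →ₗ[F] V1}
    {o o' : V2 →ₗ[F] V2} (ho : ∀ x y, f₂ (o x) (o y) = f₂ x y) (hoo : ∀ x, o' (o x) = x)
    (hg' : ∀ u w, (g : Big) *ᵥ tens u w = tens (α u) (o w)) : InR f₁ M (α b) (o ∘ₗ A ∘ₗ o') := by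
  obtain ⟨R, hR, hRz⟩ := h
  refine ⟨g * R * g⁻¹, M.mul_mem (M.mul_mem hg hR) (M.inv_mem hg), fun z => ?_⟩
  rw [gl_mul_mulVec, gl_mul_mulVec, hRz, mulVec_add, gl_mulVec_inv, hg']
  have e := D.phi_move hg ho hg' b (((g⁻¹ : G) : Big) *ᵥ z)
  rw [gl_mulVec_inv] at e
  rw [LinearMap.comp_apply, LinearMap.comp_apply, e, hoo]

theorem exists_root (b : V1) (r : F) : ∃ g ∈ M, g ∈ Cfsg.Geo.kroneckerSubgroup n 3 F ∧
    ∀ z, (g : Big) *ᵥ z = z + tens b (r • phi f₁ b z) := by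
  let α : V1 →ₗ[F] V1 :=
    { toFun := fun x => x + (r * f₁ x b) • b
      map_add' := fun x y => by rw [D.addL₁]; module
      map_smul' := fun c x => by rw [D.smulL₁, RingHom.id_apply]; module }
  obtain ⟨g, hg, hgk, hgT⟩ := D.exists_move α LinearMap.id (fun x y => by
    show f₁ (x + (r * f₁ x b) • b) (y + (r * f₁ y b) • b) = f₁ x y
    rw [D.addL₁, D.addR₁, D.addR₁, D.smulL₁, D.smulL₁, D.smulR₁, D.smulR₁, D.h1.alternating, D.h1.skew b y]
    ring) fun x y => rfl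
  refine ⟨g, hg, hgk, fun z => ?_⟩
  refine LinearMap.congr_fun (lin_eq_of_tens (S := (g : Big).mulVecLin)
    (T := LinearMap.id + tensL b ∘ₗ (r • LinearMap.id) ∘ₗ D.phiL b) fun u w => ?_) z
  show (g : Big) *ᵥ tens u w = tens u w + tens b (r • phi f₁ b (tens u w))
  rw [hgT, D.phi_tens, smul_smul, tens_smul_right, ← tens_smul_left, ← tens_add_left]
  rfl

theorem inR_scalar {b : V1} (r : F) : InR f₁ M b (r • LinearMap.id) := by
  obtain ⟨g, hg, -, hz⟩ := D.exists_root b r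
  exact ⟨g, hg, hz⟩

theorem inR_self_adjoint {b : V1} (hb : b ≠ 0) {A : V2 →ₗ[F] V2} (h : InR f₁ M b A) (x y : V2) :
    f₂ (A x) y = f₂ x (A y) := by
  obtain ⟨g, hg, hgz⟩ := h
  obtain ⟨a, ha⟩ := D.exists_partner hb
  have h0 := D.iso g hg (tens a x) (tens a y)
  rw [hgz, hgz, D.phi_tens, D.phi_tens, ha, one_smul, one_smul, D.lin.add_left, D.addR, D.addR, D.B_tens,
    D.B_tens, D.B_tens, D.B_tens, D.h1.alternating, D.h1.alternating, D.h1.skew b a, ha] at h0
  linear_combination -h0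

end Data

end Cfsg.Agent.Lib.GeomSmallSp.OrthThree.Basic
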