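import Cfsg.Agent.Lib.GeomSmallSp.OrthThree.Quad

/-!
An element carrying a block to a block, or conjugating a root element into the stabiliser, lies in the stabiliser.
-/

set_option autoImplicit false

namespace Cfsg.Agent.Lib.GeomSmallSp.OrthThree.Block

open Matrix Kronecker
open Cfsg.Agent.Lib.Subspaces.Transvection Cfsg.Agent.Lib.Subspaces.FormVec
  Cfsg.Agent.Lib.TensorMax.Lemmas Cfsg.Agent.Lib.TensorFormMax.Basic
  Cfsg.Agent.Lib.TensorOrthMax.Side Cfsg.Agent.Lib.GeomSmallSp.OrthThree.Basic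
  Cfsg.Agent.Lib.GeomSmallSp.OrthThree.Side Cfsg.Agent.Lib.GeomSmallSp.OrthThree.Move
  Cfsg.Agent.Lib.GeomSmallSp.OrthThree.Root Cfsg.Agent.Lib.GeomSmallSp.OrthThree.Quad

variable {F : Type*} [Field F] {n : ℕ}

local notation "V1" => Fin n → F
local notation "V2" => Fin 3 → F
local notation "Vec" => Fin n × Fin 3 → F
local notation "Big" => Matrix (Fin n × Fin 3) (Fin n × Fin 3) F
local notation "G" => GL (Fin n × Fin 3) F

variable {f₁ : (Fin n → F) → (Fin n → F) → F} {f₂ : (Fin 3 → F) → (Fin 3 → F) → F}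
  {B : (Fin n × Fin 3 → F) → (Fin n × Fin 3 → F) → F} {M : Subgroup (GL (Fin n × Fin 3) F)}
  (D : Data f₁ f₂ B M)
include D

theorem exists_kron_map {g : G} (hg : g ∈ Cfsg.Geo.kroneckerSubgroup n 3 F) :
    ∃ (x : V1 →ₗ[F] V1) (y : V2 →ₗ[F] V2), Function.Injective x ∧ Function.Injective y ∧
      ∀ u w, (g : Big) *ᵥ tens u w = tens (x u) (y w) := by
  have _ := D.hn
  obtain ⟨p, q, hpq⟩ := hg
  exact ⟨(p : Matrix (Fin n) (Fin n) F).mulVecLin, (q : Matrix (Fin 3) (Fin 3) F).mulVecLin,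
    gl_mulVec_injective p, gl_mulVec_injective q, fun u w => by rw [hpq, kron_mulVec_tens]; rfl⟩

/-- An element of the stabiliser respecting the second coordinate on one block. -/
theorem kron_of_fix {g : G} (hg : g ∈ Cfsg.Geo.kroneckerSubgroup n 3 F) {a c : V1} (ha : a ≠ 0)
    (h : ∀ w, (g : Big) *ᵥ tens a w = tens c w) :
    ∃ α : V1 →ₗ[F] V1, ∀ u w, (g : Big) *ᵥ tens u w = tens (α u) w := by
  obtain ⟨x, y, hx, -, hxy⟩ := exists_kron_map D hg
  obtain ⟨i, hi⟩ := Function.ne_iff.1 (fun e => ha (hx (e.trans (map_zero x).symm)) : x a ≠ 0)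
  set t := c i / x a i
  have hy : ∀ w, y w = t • w := fun w => by
    have e := (hxy a w).symm.trans (h w)
    funext j
    have e' : x a i * y w j = c i * w j := congrFun e (i, j)
    rw [Pi.smul_apply, smul_eq_mul, div_mul_eq_mul_div, eq_div_iff hi, mul_comm, e']
  exact ⟨t • x, fun u w => by rw [hxy, hy, tens_smul_right, LinearMap.smul_apply, tens_smul_left]⟩

/-- A similitude of a three-dimensional form has a square multiplier. -/
theorem similitude_sq [Fintype F] {C : V2 →ₗ[F] V2} {c : F} (hc : c ≠ 0)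
    (hC : ∀ x y, f₂ (C x) (C y) = c * f₂ x y) : ∃ s : F, c = s * s := by
  have hf := D.sym
  obtain ⟨w, e, w', h⟩ := exists_hyp hf
  have hvw : f₂ w' w = 1 := by rw [hf.comm, h.wv]
  have key : ∀ C' : V2 →ₗ[F] V2, (∀ x y, f₂ (C' x) (C' y) = c * f₂ x y) → f₂ (C' w) w = 0 →
      ∃ s : F, c = s * s := by
    intro C' hC' hw
    obtain ⟨k, hk⟩ := iso_prop hf (h.w_ne hf) h.ww (by rw [hC', h.ww, mul_zero]) hw
    have hk0 : k ≠ 0 := fun e0 => by
      have e1 := hC' w w'
      rw [hk, e0, zero_smul, hf.zeroL, h.wv, mul_one] at e1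
      exact hc e1.symm
    have he : f₂ (C' e) w = 0 := by
      have e1 := hC' e w
      rw [hk, hf.smulR, hf.comm w e, h.we, mul_zero] at e1
      exact (mul_eq_zero.1 e1).resolve_left hk0
    have e1 := hC' e e
    rw [h.form_eq hf (C' e) (C' e), he] at e1
    refine ⟨f₂ (C' e) e / f₂ e e, ?_⟩
    have := h.ee
    field_simp at e1 ⊢
    linear_combination -e1
  rcases eq_or_ne (f₂ (C w) w) 0 with h0 | h0
  · exact key C hC h0
  have hne : f₂ (C w - w) (C w - w) ≠ 0 := by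
    rw [hf.subL, hf.subR, hf.subR, hC, h.ww, hf.comm (C w) w, mul_zero]
    intro e0
    have : (2 : F) * f₂ (C w) w = 0 := by linear_combination -e0
    exact h0 ((mul_eq_zero.1 this).resolve_left hf.two)
  obtain ⟨o, ho, -, hoz⟩ := exists_reflection hf hne
  refine key (o ∘ₗ C) (fun x y => by rw [LinearMap.comp_apply, LinearMap.comp_apply, ho, hC]) ?_
  rw [LinearMap.comp_apply, hoz, show (2 * f₂ (C w) (C w - w) / f₂ (C w - w) (C w - w)) = 1 from
    (div_eq_one_iff_eq hne).2 (by rw [hf.subR, hf.subL, hf.subR, hf.subR, hC, h.ww, hf.comm (C w) w]; ring),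
    one_smul, sub_sub_cancel, h.ww]

/-- An element fixing a block pointwise lies in the stabiliser. -/
theorem mem_kron_of_fix [Fintype F] (hS : AllScalar M f₁) {a a₀ : V1} (ha : f₁ a₀ a = 1) {h : G}
    (hm : h ∈ M) (hfix : ∀ w, (h : Big) *ᵥ tens a w = tens a w) : h ∈ Cfsg.Geo.kroneckerSubgroup n 3 F := by
  have ha0 : a ≠ 0 := fun e => by rw [e, D.zeroR₁] at ha; exact zero_ne_one ha
  have hphi : ∀ z, phi f₁ a ((h : Big) *ᵥ z) = phi f₁ a z := fun z =>
    D.eq_left₂ fun w => D.phi_map hm (C := id) hfix z w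
  -- the middle images
  have hmid : ∀ u, f₁ u a = 0 → f₁ u a₀ = 0 → ∃ u'' : V1, ∀ w, ∃ x,
      (h : Big) *ᵥ tens u w = tens u'' w + tens a x := by
    intro u hu hu'
    obtain ⟨ε, -, hε, hεz⟩ := exists_eich_quad D ha hu hu'
    set k := h * ε * h⁻¹
    have hinv : ∀ w, ((h⁻¹ : G) : Big) *ᵥ tens a w = tens a w := fun w => by
      conv_lhs => rw [← hfix, gl_inv_mulVec]
    have hk : IsQuad f₁ M a k := by
      refine ⟨M.mul_mem (M.mul_mem hm hε.mem) (M.inv_mem hm), fun w => ?_, fun x w hx => ?_⟩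
      · rw [gl_mul_mulVec, gl_mul_mulVec, hinv, hε.fix, hfix]
      · have hy : phi f₁ a (((h⁻¹ : G) : Big) *ᵥ tens x w) = 0 := by
          rw [← hphi, gl_mulVec_inv, D.phi_tens, hx, zero_smul]
        exact ⟨_, by rw [gl_mul_mulVec, gl_mul_mulVec, hε.near_perp D ha hy, mulVec_add, gl_mulVec_inv, hfix]⟩
    obtain ⟨α, hα⟩ := kron_of_fix D (mem_kron D ha hS hk) ha0 (c := a) hk.fix
    refine ⟨α a₀ - a₀, fun w => ?_⟩
    set z := (h : Big) *ᵥ tens a₀ w
    have hd : phi f₁ a (z - tens a₀ w) = 0 := by rw [D.phi_sub, hphi, sub_self]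
    refine ⟨Y f₁ a₀ k (z - tens a₀ w), ?_⟩
    have e1 : (k : Big) *ᵥ z = z + (h : Big) *ᵥ tens u w := by
      rw [gl_mul_mulVec, gl_mul_mulVec, gl_inv_mulVec, hεz, D.phi_tens, D.phi_tens, ha, D.h1.skew a₀ u, hu']
      simp [tens_zero_right, mulVec_add, z]
    have e2 := hk.near_perp D ha hd
    rw [mulVec_sub, e1, hα] at e2
    rw [tens_sub_left]
    linear_combination (norm := module) e2
  choose u'' hu'' using hmid
  obtain ⟨φ, hφ⟩ := exists_dot_eq_one (v := (Pi.single 0 1 : V2)) (by simp)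
  let Γ : V1 →ₗ[F] V1 :=
    { toFun := fun x => proj f₁ a a₀ (ctr φ ((h : Big) *ᵥ tens (proj f₁ a a₀ x) (Pi.single 0 1)))
      map_add' := fun x y => by rw [proj_add D ha, tens_add_left, mulVec_add, ctr_add, proj_add D ha]
      map_smul' := fun r x => by
        rw [proj_smul D ha, tens_smul_left, mulVec_smul, ctr_smul, proj_smul D ha, RingHom.id_apply] }
  have hΓ : ∀ u, f₁ u a = 0 → f₁ u a₀ = 0 → ∀ w, ∃ x, (h : Big) *ᵥ tens u w = tens (Γ u) w + tens a x := by
    intro u hu hu' w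
    have hua : f₁ (u'' u hu hu') a = 0 := by
      obtain ⟨x, hx⟩ := hu'' u hu hu' (Pi.single 0 1)
      have e := hphi (tens u (Pi.single 0 1))
      rw [hx, D.phi_add, D.phi_self, D.phi_tens, D.phi_tens, hu, zero_smul, add_zero, smul_eq_zero] at e
      exact e.resolve_right (by simp)
    have hG : Γ u = proj f₁ a a₀ (u'' u hu hu') := by
      obtain ⟨x, hx⟩ := hu'' u hu hu' (Pi.single 0 1)
      show proj f₁ a a₀ (ctr φ ((h : Big) *ᵥ tens (proj f₁ a a₀ u) (Pi.single 0 1))) = _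
      rw [proj_self D ha hu hu', hx, ctr_add, ctr_tens, ctr_tens, hφ, one_smul, proj_add D ha, proj_smul D ha,
        proj_line D ha, smul_zero, add_zero]
    obtain ⟨x, hx⟩ := hu'' u hu hu' w
    refine ⟨x + (-(f₁ (u'' u hu hu') a₀)) • w, ?_⟩
    conv_lhs => rw [hx, decomp_perp D ha hua]
    rw [hG, tens_add_left, tens_smul_left, tens_add_right, tens_smul_right]
    abel
  have hΓa : ∀ x, f₁ (Γ x) a = 0 ∧ f₁ (Γ x) a₀ = 0 := fun x => ⟨proj_left D ha _, proj_left₀ D ha _⟩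
  let α : V1 →ₗ[F] V1 :=
    { toFun := fun x => f₁ x a • a₀ + (-(f₁ x a₀)) • a + Γ (proj f₁ a a₀ x)
      map_add' := fun x y => by
        simp only [D.addL₁, proj_add D ha, map_add]; module
      map_smul' := fun r x => by
        simp only [D.smulL₁, proj_smul D ha, map_smul, RingHom.id_apply]; module }
  obtain ⟨v₀, v₁, v₂, hv⟩ := exists_hyp D.sym
  have hαiso : ∀ x y, f₁ (α x) (α y) = f₁ x y := by
    intro x y
    set p := proj f₁ a a₀ x
    set q := proj f₁ a a₀ y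
    have hpq : f₁ (Γ p) (Γ q) = f₁ p q := by
      obtain ⟨s, hs⟩ := hΓ p (proj_left D ha x) (proj_left₀ D ha x) v₀
      obtain ⟨t, ht⟩ := hΓ q (proj_left D ha y) (proj_left₀ D ha y) v₂
      have e := D.iso h hm (tens p v₀) (tens q v₂)
      rw [hs, ht, D.lin.add_left, D.addR, D.addR, D.B_tens, D.B_tens, D.B_tens, D.B_tens, D.B_tens, (hΓa p).1,
        D.h1.skew a (Γ q), (hΓa q).1, D.h1.alternating, hv.wv] at e
      linear_combination e
    show f₁ (f₁ x a • a₀ + (-(f₁ x a₀)) • a + Γ p) (f₁ y a • a₀ + (-(f₁ y a₀)) • a + Γ q) = _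
    rw [form_decomp D ha x y]
    simp only [D.addL₁, D.addR₁, D.smulL₁, D.smulR₁, D.h1.alternating, ha, swap_pair D ha, D.h1.skew a₀ (Γ q),
      D.h1.skew a (Γ q), (hΓa p).1, (hΓa p).2, (hΓa q).1, (hΓa q).2, hpq]
    ring
  obtain ⟨g, hg, hgk, hgT⟩ := D.exists_move α LinearMap.id hαiso fun x y => rfl
  have hαa : α a = a := by
    show f₁ a a • a₀ + (-(f₁ a a₀)) • a + Γ (proj f₁ a a₀ a) = a
    rw [D.h1.alternating, swap_pair D ha, proj_line D ha, map_zero]; module
  have hga : ∀ w, (g : Big) *ᵥ tens a w = tens a w := fun w => by rw [hgT, hαa]; rfl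
  have hk : IsQuad f₁ M a (g⁻¹ * h) := by
    refine ⟨M.mul_mem (M.inv_mem hg) hm, fun w => ?_, fun u w hu => ?_⟩
    · rw [gl_mul_mulVec, hfix]; conv_lhs => rw [← hga, gl_inv_mulVec]
    obtain ⟨x, hx⟩ := hΓ _ (proj_left D ha u) (proj_left₀ D ha u) w
    have e : (h : Big) *ᵥ tens u w = (g : Big) *ᵥ tens u w + (g : Big) *ᵥ tens a x := by
      conv_lhs => rw [decomp_perp D ha hu, tens_add_left, tens_smul_left, mulVec_add, mulVec_smul, hfix, hx]
      rw [hgT, hga, show α u = Γ (proj f₁ a a₀ u) + (-(f₁ u a₀)) • a from by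
        show f₁ u a • a₀ + (-(f₁ u a₀)) • a + Γ (proj f₁ a a₀ u) = _
        rw [hu]; module, tens_add_left, tens_smul_left, LinearMap.id_apply]
      abel
    exact ⟨x, by rw [gl_mul_mulVec, e, ← mulVec_add, gl_inv_mulVec]⟩
  rw [show h = g * (g⁻¹ * h) by group]
  exact mul_mem hgk (mem_kron D ha hS hk)

/-- An element carrying a block to a block lies in the stabiliser. -/
theorem mem_kron_of_block [Fintype F] (hS : AllScalar M f₁) {h : G} (hm : h ∈ M) {a c : V1} (ha : a ≠ 0)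
    (hc : c ≠ 0) (hac : ∀ w, ∃ w', (h : Big) *ᵥ tens a w = tens c w') :
    h ∈ Cfsg.Geo.kroneckerSubgroup n 3 F := by
  have hf := D.sym
  obtain ⟨β, hβ, hβc⟩ := Move.exists_smul_eq D hc ha
  obtain ⟨g, hg, hgk, hgT⟩ := D.exists_move β LinearMap.id hβ fun x y => rfl
  obtain ⟨a₀, ha₀⟩ := D.exists_partner ha
  set h₁ := g * h with hh₁
  have hm₁ : h₁ ∈ M := M.mul_mem hg hm
  have hac₁ : ∀ w, ∃ w', (h₁ : Big) *ᵥ tens a w = tens a w' := fun w => by
    obtain ⟨w', hw'⟩ := hac w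
    exact ⟨w', by rw [gl_mul_mulVec, hw', hgT, hβc]; rfl⟩
  let C : V2 →ₗ[F] V2 := -(D.phiL a₀ ∘ₗ (h₁ : Big).mulVecLin ∘ₗ tensL a)
  have hC : ∀ w, (h₁ : Big) *ᵥ tens a w = tens a (C w) := fun w => by
    obtain ⟨w', hw'⟩ := hac₁ w
    show _ = tens a (-phi f₁ a₀ ((h₁ : Big) *ᵥ tens a w))
    rw [hw', Y_tens_self D ha₀, neg_neg]
  -- conjugate the root element of the block
  obtain ⟨R, hR, -, hRz⟩ := D.exists_root a 1
  have hCinj : Function.Injective C := fun x y e => tens_eq_tens ha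
    (gl_mulVec_injective h₁ ((hC x).trans (e ▸ (hC y).symm)))
  have hperp : ∀ z, phi f₁ a z = 0 → phi f₁ a (((h₁⁻¹ : G) : Big) *ᵥ z) = 0 := fun z hz =>
    hf.eq_zero fun w => by
      rw [hf.comm, ← D.phi_map hm₁ hC, gl_mulVec_inv, hz, hf.zeroL]
  obtain ⟨A, hA, hAz⟩ := IsQuad.inR_of_fix D ha₀ (g := h₁ * R * h₁⁻¹)
    (M.mul_mem (M.mul_mem hm₁ hR) (M.inv_mem hm₁)) fun u w hu => by
      rw [gl_mul_mulVec, gl_mul_mulVec, hRz, hperp _ (by rw [D.phi_tens, hu, zero_smul]), smul_zero,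
        tens_zero_right, add_zero, gl_mulVec_inv]
  obtain ⟨c₀, rfl⟩ := hS a A ha hA
  have hsim : ∀ x y, f₂ (C x) (C y) = c₀ * f₂ x y := by
    intro x y
    have e := hAz ((h₁ : Big) *ᵥ tens a₀ x)
    rw [gl_mul_mulVec, gl_mul_mulVec, gl_inv_mulVec, hRz, mulVec_add, hC, D.phi_tens, ha₀, one_smul, one_smul,
      add_right_inj, LinearMap.smul_apply, LinearMap.id_apply] at e
    have e2 := D.phi_map hm₁ hC (tens a₀ x) y
    rw [D.phi_tens, ha₀, one_smul] at e2
    rw [tens_eq_tens ha e, hf.smulL, e2]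
  have hc0 : c₀ ≠ 0 := by
    intro e
    obtain ⟨_, e₁, _, hh⟩ := exists_hyp hf
    obtain ⟨x, rfl⟩ := LinearMap.surjective_of_injective hCinj e₁
    exact hh.ee (by rw [hsim, e, zero_mul])
  obtain ⟨s, hs⟩ := similitude_sq D hc0 hsim
  have hs0 : s ≠ 0 := fun e => hc0 (by rw [hs, e, mul_zero])
  obtain ⟨t, ht, hta, -, -⟩ := Move.exists_torus D ha₀ hs0
  obtain ⟨g₀, hg₀, hg₀k, hg₀T⟩ := D.exists_move t (s⁻¹ • C) ht fun x y => by
    rw [LinearMap.smul_apply, LinearMap.smul_apply, hf.smulL, hf.smulR, hsim, hs]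
    field_simp
  have hfix : ∀ w, ((g₀⁻¹ * h₁ : G) : Big) *ᵥ tens a w = tens a w := fun w => by
    have e : (g₀ : Big) *ᵥ tens a w = tens a (C w) := by
      rw [hg₀T, hta, LinearMap.smul_apply, tens_smul_left, tens_smul_right, smul_smul, mul_inv_cancel₀ hs0,
        one_smul]
    rw [gl_mul_mulVec, hC, ← e, gl_inv_mulVec]
  have := mem_kron_of_fix D hS ha₀ (M.mul_mem (M.inv_mem hg₀) hm₁) hfix
  rw [show h = g⁻¹ * (g₀ * (g₀⁻¹ * h₁)) by rw [hh₁]; group]
  exact mul_mem (inv_mem hgk) (mul_mem hg₀k this)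

/-- The image of a block under an element outside the stabiliser is no block. -/
theorem not_block [Fintype F] (hS : AllScalar M f₁) {g : G} (hg : g ∈ M)
    (hgk : g ∉ Cfsg.Geo.kroneckerSubgroup n 3 F) {a c : V1} (ha : a ≠ 0) (hc : c ≠ 0)
    (h : ∀ w, ∃ w', tens c w = (g : Big) *ᵥ tens a w') : False := by
  refine hgk ?_
  have := mem_kron_of_block D hS (M.inv_mem hg) hc ha fun w => by
    obtain ⟨w', hw'⟩ := h w
    exact ⟨w', by rw [hw', gl_inv_mulVec]⟩
  rwa [inv_mem_iff] at this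

/-- Conjugating a root element out of the stabiliser. -/
theorem root_not_kron [Fintype F] (hS : AllScalar M f₁) {g R : G} (hg : g ∈ M)
    (hgk : g ∉ Cfsg.Geo.kroneckerSubgroup n 3 F) {a : V1} (ha : a ≠ 0)
    (hR : R ∈ M) (hRz : ∀ z, (R : Big) *ᵥ z = z + tens a (phi f₁ a z)) :
    g * R * g⁻¹ ∉ Cfsg.Geo.kroneckerSubgroup n 3 F := by
  have hf := D.sym
  set S := g * R * g⁻¹ with hSdef
  have hX : ∀ z, (S : Big) *ᵥ z = z + (g : Big) *ᵥ tens a (phi f₁ a (((g⁻¹ : G) : Big) *ᵥ z)) := fun z => by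
    rw [gl_mul_mulVec, gl_mul_mulVec, hRz, mulVec_add, gl_mulVec_inv]
  have hXX : ∀ z, (S : Big) *ᵥ ((S : Big) *ᵥ z) = (2 : F) • ((S : Big) *ᵥ z) - z := fun z => by
    set y := phi f₁ a (((g⁻¹ : G) : Big) *ᵥ z)
    rw [hX ((S : Big) *ᵥ z), hX z, mulVec_add, gl_inv_mulVec, D.phi_add, D.phi_self, add_zero]
    module
  intro hk
  obtain ⟨x, y, hx, hy, hxy⟩ := exists_kron_map D hk
  obtain ⟨a₀, ha₀⟩ := D.exists_partner ha
  have hS1 : ¬ ∀ z, (S : Big) *ᵥ z = z := by
    intro h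
    have e := h ((g : Big) *ᵥ tens a₀ (Pi.single 0 1))
    rw [hX, gl_inv_mulVec, D.phi_tens, ha₀, one_smul, add_eq_left] at e
    exact tens_ne_zero ha (by simp) (gl_mulVec_injective g (e.trans (mulVec_zero _).symm))
  -- one factor is scalar
  by_cases hys : ∀ w, ∃ t : F, y w = t • w
  · obtain ⟨t, ht⟩ := scalar_of_eigen y hys
    obtain ⟨u, hu⟩ : ∃ u, (t • x) u - u ≠ 0 := by
      by_contra hc
      push Not at hc
      refine hS1 fun z => ?_
      refine LinearMap.congr_fun (lin_eq_of_tens (S := (S : Big).mulVecLin) (T := LinearMap.id)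
        fun u w => ?_) z
      show (S : Big) *ᵥ tens u w = tens u w
      conv_rhs => rw [← sub_eq_zero.1 (hc u)]
      rw [hxy, ht, LinearMap.smul_apply, tens_smul_left, tens_smul_right]
    refine not_block D hS hg hgk ha hu fun w => ⟨phi f₁ a (((g⁻¹ : G) : Big) *ᵥ tens u w), ?_⟩
    have e := hX (tens u w)
    rw [hxy, ht] at e
    rw [tens_sub_left, LinearMap.smul_apply, tens_smul_left, ← tens_smul_right, e]
    abel
  obtain ⟨μ, hμ⟩ : ∃ μ : F, ∀ u, x u = μ • u := by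
    refine scalar_of_eigen x fun u => ?_
    by_contra hc
    push Not at hc
    rcases eq_or_ne u 0 with rfl | hu
    · exact hc 0 (by simp)
    obtain ⟨χ, hχ, hχx⟩ := exists_functional (W := Submodule.span F {u}) (v := x u) fun e => by
      obtain ⟨t, ht⟩ := Submodule.mem_span_singleton.1 e
      exact hc t ht.symm
    have hχu := hχ u (Submodule.mem_span_singleton_self u)
    have key : ∀ w, (χ ⬝ᵥ x (x u)) • y (y w) = (2 : F) • y w := fun w => by
      have e := hXX (tens u w)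
      rw [hxy, hxy] at e
      funext j
      have e' : col (tens (x (x u)) (y (y w))) j = col ((2 : F) • tens (x u) (y w) - tens u w) j := by rw [e]
      have hsub : ∀ p q : Vec, col (p - q) j = col p j - col q j := fun p q => rfl
      rw [hsub, col_smul, col_tens, col_tens, col_tens] at e'
      have e'' := congrArg (χ ⬝ᵥ ·) e'
      simp only [dotProduct_smul, dotProduct_sub, hχx, hχu, smul_eq_mul, mul_zero, mul_one, sub_zero] at e''
      simp only [Pi.smul_apply, smul_eq_mul]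
      linear_combination e''
    refine hys fun w => ?_
    have hne : χ ⬝ᵥ x (x u) ≠ 0 := fun e0 => by
      have h1 := key (Pi.single 0 1)
      rw [e0, zero_smul, eq_comm, smul_eq_zero] at h1
      exact hy.ne_iff' (map_zero y) |>.2 (by simp) (h1.resolve_left hf.two)
    refine ⟨2 / (χ ⬝ᵥ x (x u)), hy ?_⟩
    rw [map_smul, div_eq_inv_mul, ← smul_smul, eq_inv_smul_iff₀ hne, key]
  -- an isometry of the second factor whose difference from one has square zero
  set β : V2 →ₗ[F] V2 := μ • y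
  have hβ : ∀ u w, (S : Big) *ᵥ tens u w = tens u (β w) := fun u w => by
    rw [hxy, hμ, tens_smul_left, LinearMap.smul_apply, tens_smul_right]
  have hiso : ∀ p q, f₂ (β p) (β q) = f₂ p q := fun p q => by
    have e := D.iso S (M.mul_mem (M.mul_mem hg hR) (M.inv_mem hg)) (tens a₀ p) (tens a q)
    rwa [hβ, hβ, D.B_tens, D.B_tens, ha₀, one_mul, one_mul] at e
  set N : V2 →ₗ[F] V2 := β - LinearMap.id
  have hβN : ∀ p, β (N p) = N p := fun p => tens_eq_tens ha (by
    have e := hXX (tens a p)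
    rw [hβ, hβ] at e
    show tens a (β (β p - p)) = tens a (β p - p)
    rw [map_sub, tens_sub_right, tens_sub_right, e]
    module)
  have hsing : ∀ p q, f₂ (N p) (N q) = 0 := fun p q => by
    have e := hiso p (N q)
    rw [hβN] at e
    show f₂ (β p - p) (N q) = 0
    rw [hf.subL, e, sub_self]
  have hskew : ∀ p, f₂ (N p) p = 0 := fun p => by
    have e := hsing p p
    have e' := hiso p p
    simp only [N, LinearMap.sub_apply, LinearMap.id_apply, hf.subL, hf.subR, hf.comm (β p) p] at e ⊢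
    refine (mul_eq_zero.1 (show (2 : F) * _ = 0 from ?_)).resolve_left hf.two
    linear_combination e' - e
  obtain ⟨p₀, hp₀⟩ : ∃ p, N p ≠ 0 := by
    by_contra hc
    push Not at hc
    refine hS1 fun z => ?_
    refine LinearMap.congr_fun (lin_eq_of_tens (S := (S : Big).mulVecLin) (T := LinearMap.id)
      fun u w => ?_) z
    show (S : Big) *ᵥ tens u w = tens u w
    rw [hβ, show β w = w from sub_eq_zero.1 (hc w)]
  have hzero : ∀ p, f₂ p (N p₀) ≠ 0 → N p = 0 := fun p hp => by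
    obtain ⟨r, hr⟩ := iso_prop hf hp₀ (hsing _ _) (hsing p p) (hsing p p₀)
    have e := hskew p
    rw [hr, hf.smulL, hf.comm p] at e
    rw [hr, (mul_eq_zero.1 e).resolve_right hp, zero_smul]
  obtain ⟨q, hq⟩ := hf.sf.nondeg _ hp₀
  rcases eq_or_ne (f₂ p₀ (N p₀)) 0 with h0 | h0
  · have h1 := hzero (p₀ + q) (by rw [hf.addL, h0, zero_add]; exact hq)
    rw [map_add, hzero q hq, add_zero] at h1
    exact hp₀ h1
  · exact hp₀ (hzero p₀ h0)
where
  scalar_of_eigen {k : ℕ} (T : (Fin k → F) →ₗ[F] (Fin k → F)) (h : ∀ v, ∃ t : F, T v = t • v) :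
      ∃ t : F, ∀ v, T v = t • v := by
    rcases Nat.eq_zero_or_pos k with rfl | hk
    · exact ⟨0, fun v => Subsingleton.elim _ _⟩
    choose t ht using h
    set e : Fin k → F := Pi.single ⟨0, hk⟩ 1
    refine ⟨t e, fun v => ?_⟩
    by_cases hv : v ∈ Submodule.span F {e}
    · obtain ⟨r, rfl⟩ := Submodule.mem_span_singleton.1 hv
      rw [map_smul, ht, smul_comm]
    have hli : ∀ p q : F, p • e + q • v = 0 → p = 0 ∧ q = 0 :=
      fun p q => coeff_eq_zero (by simp [e]) hv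
    have e1 := map_add T e v
    rw [ht, ht, ht] at e1
    obtain ⟨h1, h2⟩ := hli (t (e + v) - t e) (t (e + v) - t v) (by linear_combination (norm := module) e1)
    rw [ht, ← sub_eq_zero.1 h2, sub_eq_zero.1 h1]
  tens_sub_right {a : Fin n → F} {p q : Fin 3 → F} : tens a (p - q) = tens a p - tens a q :=
    map_sub (tensL a) p q

end Cfsg.Agent.Lib.GeomSmallSp.OrthThree.Block
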