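import Mathlib.LinearAlgebra.Matrix.Transvection
import Mathlib.LinearAlgebra.Matrix.Determinant.Basic
import Mathlib.LinearAlgebra.FiniteDimensional.Lemmas
import Mathlib.Tactic

/-!
A space of singular three-by-three matrices of dimension at least four contains a matrix of rank at most one.
-/

set_option autoImplicit false

namespace Cfsg.Agent.Lib.GeomSmallSp.OrthThree.Singular

open Matrix

variable {F : Type*} [Field F] {U : Type*} [AddCommGroup U] [Module F U]

local notation "M3" => Matrix (Fin 3) (Fin 3) F

/-- A matrix of rank at most one. -/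
def RankOne (A : Matrix (Fin 3) (Fin 3) F) : Prop := ∃ v w : Fin 3 → F, A = vecMulVec v w

theorem surj_two {V : Type*} [AddCommGroup V] [Module F V] [FiniteDimensional F V]
    (h : 2 ≤ Module.finrank F V) (L : V →ₗ[F] (Fin 2 → F)) (hL : Function.Injective L) :
    Function.Surjective L := by
  rw [← LinearMap.range_eq_top]
  refine Submodule.eq_top_of_finrank_eq (le_antisymm (Submodule.finrank_le _) ?_)
  rw [LinearMap.finrank_range_of_inj hL, Module.finrank_fin_fun]
  exact h

/-- The normalised situation. -/
theorem core [FiniteDimensional F U] (hn : 4 ≤ Module.finrank F U) (h2 : (2 : F) ≠ 0) (N : U →ₗ[F] M3) {e : U}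
    (he : N e = Matrix.diagonal ![1, 1, 0]) (hdet : ∀ u, (N u).det = 0) :
    ∃ u, u ≠ 0 ∧ RankOne (N u) := by
  by_contra hnone
  push Not at hnone
  -- expanding the determinant along the normal form
  have hcorner : ∀ u, N u 2 2 = 0 ∧ N u 2 0 * N u 0 2 + N u 2 1 * N u 1 2 = 0 := by
    intro u
    have p := hdet (u + e)
    have q := hdet (u - e)
    have r := hdet u
    rw [map_add, he] at p
    rw [map_sub, he] at q
    simp [Matrix.det_fin_three, Matrix.diagonal] at p q r
    have h22 : N u 2 2 = 0 := by
      have : (2 : F) * N u 2 2 = 0 := by linear_combination p + q - 2 * r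
      exact (mul_eq_zero.1 this).resolve_left h2
    refine ⟨h22, ?_⟩
    have : (2 : F) * (N u 2 0 * N u 0 2 + N u 2 1 * N u 1 2) = 0 := by
      linear_combination -p + q + 2 * (N u 0 0 + N u 1 1) * h22
    exact (mul_eq_zero.1 this).resolve_left h2
  let rr : U →ₗ[F] (Fin 2 → F) :=
    { toFun := fun u => ![N u 2 0, N u 2 1]
      map_add' := fun a b => by simp [map_add]
      map_smul' := fun a b => by simp [map_smul] }
  let cc : U →ₗ[F] (Fin 2 → F) :=
    { toFun := fun u => ![N u 0 2, N u 1 2]
      map_add' := fun a b => by simp [map_add]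
      map_smul' := fun a b => by simp [map_smul] }
  have hpol : ∀ u v, rr u 0 * cc v 0 + rr u 1 * cc v 1 + (rr v 0 * cc u 0 + rr v 1 * cc u 1) = 0 := by
    intro u v
    have a := (hcorner (u + v)).2
    have b := (hcorner u).2
    have c := (hcorner v).2
    simp only [map_add, Matrix.add_apply] at a
    show N u 2 0 * N v 0 2 + N u 2 1 * N v 1 2 + (N v 2 0 * N u 0 2 + N v 2 1 * N u 1 2) = 0
    linear_combination a - b - c
  set K₀ : Submodule F U := LinearMap.ker rr ⊓ LinearMap.ker cc
  have hmemK : ∀ {u}, u ∈ K₀ ↔ rr u = 0 ∧ cc u = 0 := Iff.rfl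
  -- the block is large
  have hK : 2 ≤ Module.finrank F K₀ := by
    have hr1 := LinearMap.finrank_range_add_finrank_ker rr
    have hr2 : Module.finrank F (LinearMap.range rr) ≤ 2 :=
      (Submodule.finrank_le _).trans_eq (Module.finrank_fin_fun _)
    let c' := cc.comp (LinearMap.ker rr).subtype
    have hc1 := LinearMap.finrank_range_add_finrank_ker c'
    have hker : Module.finrank F (LinearMap.ker c') ≤ Module.finrank F K₀ := by
      refine LinearMap.finrank_le_finrank_of_injective
        (f := ((LinearMap.ker rr).subtype.comp (LinearMap.ker c').subtype).codRestrict K₀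
          fun x => hmemK.2 ⟨x.1.2, x.2⟩) fun x y h => ?_
      exact Subtype.ext (Subtype.ext (congrArg Subtype.val h :))
    have horth : ∀ u v, rr u = 0 → rr v 0 * cc u 0 + rr v 1 * cc u 1 = 0 := fun u v hu => by
      have := hpol u v
      rw [hu] at this
      simpa using this
    rcases Nat.lt_or_ge (Module.finrank F (LinearMap.range rr)) 1 with h0 | h1
    · have : Module.finrank F (LinearMap.range c') ≤ 2 :=
        (Submodule.finrank_le _).trans_eq (Module.finrank_fin_fun _)
      omega
    · obtain ⟨v, hv⟩ : ∃ v, rr v ≠ 0 := by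
        by_contra hc
        push Not at hc
        rw [LinearMap.range_eq_bot.2 (LinearMap.ext hc), finrank_bot] at h1
        omega
      rcases Nat.lt_or_ge (Module.finrank F (LinearMap.range rr)) 2 with h1' | h2'
      · have : LinearMap.range c' ≤ Submodule.span F {![-(rr v 1), rr v 0]} := by
          rintro _ ⟨⟨u, hu⟩, rfl⟩
          have e := horth u v hu
          refine Submodule.mem_span_singleton.2 ?_
          show ∃ t : F, t • _ = cc u
          rcases eq_or_ne (rr v 0) 0 with h | h
          · have hv1 : rr v 1 ≠ 0 := fun h' => hv (funext fun i => by fin_cases i <;> assumption)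
            refine ⟨-(cc u 0) / rr v 1, funext fun i => ?_⟩
            rw [h, zero_mul, zero_add] at e
            have e' := (mul_eq_zero.1 e).resolve_left hv1
            fin_cases i
            · simp; field_simp
            · simp [h, e']
          · refine ⟨cc u 1 / rr v 0, funext fun i => ?_⟩
            fin_cases i
            · simp; field_simp; linear_combination -e
            · simp [h]
        have := (Submodule.finrank_mono this).trans ((finrank_span_le_card _).trans (by simp : _ ≤ 1))
        omega
      · have hsurj : Function.Surjective rr := by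
          rw [← LinearMap.range_eq_top]
          refine Submodule.eq_top_of_finrank_eq ?_
          rw [Module.finrank_fin_fun]
          omega
        have : c' = 0 := by
          refine LinearMap.ext fun u => funext fun i => ?_
          obtain ⟨w, hw⟩ := hsurj (Pi.single i 1)
          have e := horth u.1 w u.2
          rw [hw] at e
          show cc u.1 i = 0
          fin_cases i <;> simpa [Pi.single_apply] using e
        rw [this] at hker
        rw [this, LinearMap.range_zero, finrank_bot] at hc1
        omega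
  have hblock : ∀ k : K₀, N k 2 0 = 0 ∧ N k 2 1 = 0 ∧ N k 0 2 = 0 ∧ N k 1 2 = 0 ∧ N k 2 2 = 0 := fun k =>
    ⟨congrFun k.2.1 0, congrFun k.2.1 1, congrFun k.2.2 0, congrFun k.2.2 1, (hcorner _).1⟩
  have hnz : ∀ k : K₀, RankOne (N k) → k = 0 := fun k h => by
    by_contra hk
    exact hnone _ (fun e0 => hk (Subtype.ext e0)) h
  -- no element of the block kills a vector on either side
  have hright : ∀ (c₀ c₁ : F), (c₀ ≠ 0 ∨ c₁ ≠ 0) → ∀ k : K₀, N k 0 0 * c₀ + N k 0 1 * c₁ = 0 →
      N k 1 0 * c₀ + N k 1 1 * c₁ = 0 → k = 0 := by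
    intro c₀ c₁ hc k h0 h1
    obtain ⟨b20, b21, b02, b12, b22⟩ := hblock k
    refine hnz k ?_
    rcases eq_or_ne c₀ 0 with h | h
    · have hc1 : c₁ ≠ 0 := hc.resolve_left fun e => e h
      simp [h, hc1] at h0 h1
      refine ⟨![N k 0 0, N k 1 0, 0], ![1, 0, 0], ?_⟩
      ext i j; fin_cases i <;> fin_cases j <;> simp [vecMulVec_apply, *]
    · refine ⟨![N k 0 1, N k 1 1, 0], ![-c₁ / c₀, 1, 0], ?_⟩
      ext i j; fin_cases i <;> fin_cases j <;> simp [vecMulVec_apply, *] <;> field_simp
      · linear_combination h0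
      · linear_combination h1
  have hleft : ∀ (r₀ r₁ : F), (r₀ ≠ 0 ∨ r₁ ≠ 0) → ∀ k : K₀, r₀ * N k 0 0 + r₁ * N k 1 0 = 0 →
      r₀ * N k 0 1 + r₁ * N k 1 1 = 0 → k = 0 := by
    intro r₀ r₁ hr k h0 h1
    obtain ⟨b20, b21, b02, b12, b22⟩ := hblock k
    refine hnz k ?_
    rcases eq_or_ne r₀ 0 with h | h
    · have hr1 : r₁ ≠ 0 := hr.resolve_left fun e => e h
      simp [h, hr1] at h0 h1
      refine ⟨![1, 0, 0], ![N k 0 0, N k 0 1, 0], ?_⟩
      ext i j; fin_cases i <;> fin_cases j <;> simp [vecMulVec_apply, *]
    · refine ⟨![-r₁ / r₀, 1, 0], ![N k 1 0, N k 1 1, 0], ?_⟩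
      ext i j; fin_cases i <;> fin_cases j <;> simp [vecMulVec_apply, *] <;> field_simp
      · linear_combination h0
      · linear_combination h1
  have hzero : ∀ u, rr u = 0 ∨ cc u = 0 := by
    intro u
    by_cases hc : cc u = 0
    · exact Or.inr hc
    refine Or.inl ?_
    set c₀ := N u 0 2
    set c₁ := N u 1 2
    have hc' : c₀ ≠ 0 ∨ c₁ ≠ 0 := by
      by_contra h'
      push Not at h'
      exact hc (funext fun i => by fin_cases i <;> simp [cc, c₀, c₁] at h' ⊢ <;> tauto)
    let L : K₀ →ₗ[F] (Fin 2 → F) :=
      { toFun := fun k => ![N k 1 1 * c₀ - N k 0 1 * c₁, -(N k 1 0 * c₀) + N k 0 0 * c₁]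
        map_add' := fun a b => by
          funext i; fin_cases i <;> simp [map_add] <;> ring
        map_smul' := fun a b => by
          funext i; fin_cases i <;> simp [map_smul] <;> ring }
    have hL : Function.Injective L := by
      rw [injective_iff_map_eq_zero]
      intro k hk
      have a := congrFun hk 0
      have b := congrFun hk 1
      simp [L] at a b
      refine hleft c₁ (-c₀) (hc'.symm.imp_right neg_ne_zero.2) k (by linear_combination b)
        (by linear_combination -a)
    have horth : ∀ k : K₀, N u 2 0 * (L k 0) + N u 2 1 * (L k 1) = 0 := by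
      intro k
      obtain ⟨b20, b21, b02, b12, b22⟩ := hblock k
      have p := hdet (u + k)
      have q := hdet u
      rw [map_add] at p
      simp [Matrix.det_fin_three, b20, b21, b02, b12, b22, (hcorner u).1] at p q
      simp [L, c₀, c₁]
      linear_combination -p + q
    funext i
    obtain ⟨k, hk⟩ := surj_two hK L hL (Pi.single i 1)
    have e := horth k
    rw [hk] at e
    fin_cases i <;> simpa [Pi.single_apply, rr] using e
  have hKle : Module.finrank F K₀ ≤ 2 := by
    let L : K₀ →ₗ[F] (Fin 2 → F) :=
      { toFun := fun k => ![N k 0 0, N k 1 0]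
        map_add' := fun a b => by simp [map_add]
        map_smul' := fun a b => by simp [map_smul] }
    have hL : Function.Injective L := by
      rw [injective_iff_map_eq_zero]
      intro k hk
      have a := congrFun hk 0
      have b := congrFun hk 1
      simp [L] at a b
      exact hright 1 0 (Or.inl one_ne_zero) k (by simp [a]) (by simp [b])
    have := LinearMap.finrank_le_finrank_of_injective hL
    rwa [Module.finrank_fin_fun] at this
  have hsurj : ∀ T : U →ₗ[F] (Fin 2 → F), LinearMap.ker T = K₀ → Function.Surjective T := by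
    intro T hT
    rw [← LinearMap.range_eq_top]
    refine Submodule.eq_top_of_finrank_eq (le_antisymm (Submodule.finrank_le _) ?_)
    have := LinearMap.finrank_range_add_finrank_ker T
    rw [hT] at this
    rw [Module.finrank_fin_fun]
    omega
  by_cases hr : ∀ u, rr u = 0
  · obtain ⟨u, hu⟩ := hsurj cc (le_antisymm (fun u h => ⟨hr u, h⟩) inf_le_right) ![1, 0]
    let L : K₀ →ₗ[F] (Fin 2 → F) :=
      { toFun := fun k => ![N k 1 0, N k 1 1]
        map_add' := fun a b => by simp [map_add]
        map_smul' := fun a b => by simp [map_smul] }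
    have hL : Function.Injective L := by
      rw [injective_iff_map_eq_zero]
      intro k hk
      have a := congrFun hk 0
      have b := congrFun hk 1
      simp [L] at a b
      exact hleft 0 1 (Or.inr one_ne_zero) k (by simp [a]) (by simp [b])
    obtain ⟨k, hk⟩ := surj_two hK L hL ![-(N u 1 0), -(N u 1 1)]
    obtain ⟨b20, b21, b02, b12, b22⟩ := hblock k
    have a10 : N k 1 0 = -(N u 1 0) := congrFun hk 0
    have a11 : N k 1 1 = -(N u 1 1) := congrFun hk 1
    have u02 : N u 0 2 = 1 := congrFun hu 0
    have u12 : N u 1 2 = 0 := congrFun hu 1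
    have u20 : N u 2 0 = 0 := congrFun (hr u) 0
    have u21 : N u 2 1 = 0 := congrFun (hr u) 1
    refine hnone (u + k) (fun e0 => ?_) ⟨![1, 0, 0], (N (u + k)) 0, ?_⟩
    · have e1 := congrArg (fun x => N x 0 2) e0
      simp [map_add, u02, b02] at e1
    · ext i j
      fin_cases i <;> fin_cases j <;>
        simp [map_add, vecMulVec_apply, a10, a11, u12, u20, u21, b20, b21, b02, b12, b22, (hcorner u).1]
  · have hc : ∀ u, cc u = 0 := by
      push Not at hr
      obtain ⟨u₀, hu₀⟩ := hr
      have h0 : cc u₀ = 0 := (hzero u₀).resolve_left hu₀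
      intro u
      rcases hzero u with h | h
      · rcases hzero (u₀ + u) with h' | h'
        · rw [map_add, h, add_zero] at h'; exact absurd h' hu₀
        · rwa [map_add, h0, zero_add] at h'
      · exact h
    obtain ⟨u, hu⟩ := hsurj rr (le_antisymm (fun u h => ⟨h, hc u⟩) inf_le_left) ![1, 0]
    let L : K₀ →ₗ[F] (Fin 2 → F) :=
      { toFun := fun k => ![N k 0 1, N k 1 1]
        map_add' := fun a b => by simp [map_add]
        map_smul' := fun a b => by simp [map_smul] }
    have hL : Function.Injective L := by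
      rw [injective_iff_map_eq_zero]
      intro k hk
      have a := congrFun hk 0
      have b := congrFun hk 1
      simp [L] at a b
      exact hright 0 1 (Or.inr one_ne_zero) k (by simp [a]) (by simp [b])
    obtain ⟨k, hk⟩ := surj_two hK L hL ![-(N u 0 1), -(N u 1 1)]
    obtain ⟨b20, b21, b02, b12, b22⟩ := hblock k
    have a01 : N k 0 1 = -(N u 0 1) := congrFun hk 0
    have a11 : N k 1 1 = -(N u 1 1) := congrFun hk 1
    have u20 : N u 2 0 = 1 := congrFun hu 0
    have u21 : N u 2 1 = 0 := congrFun hu 1
    have u02 : N u 0 2 = 0 := congrFun (hc u) 0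
    have u12 : N u 1 2 = 0 := congrFun (hc u) 1
    refine hnone (u + k) (fun e0 => ?_) ⟨fun i => N (u + k) i 0, ![1, 0, 0], ?_⟩
    · have e1 := congrArg (fun x => N x 2 0) e0
      simp [map_add, u20, b20] at e1
    · ext i j
      fin_cases i <;> fin_cases j <;>
        simp [map_add, vecMulVec_apply, a01, a11, u02, u12, u21, b20, b21, b02, b12, b22, (hcorner u).1]

theorem rankOne_diag {D : Fin 3 → F} {i j : Fin 3} (hij : i ≠ j) (hi : D i = 0) (hj : D j = 0) :
    RankOne (Matrix.diagonal D) := by
  refine ⟨D, fun b => if b = i ∨ b = j then 0 else 1, ?_⟩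
  ext a b
  rw [vecMulVec_apply, Matrix.diagonal_apply]
  by_cases hb : b = i ∨ b = j
  · rw [if_pos hb, mul_zero]
    split
    · subst a; rcases hb with rfl | rfl <;> assumption
    · rfl
  · rw [if_neg hb, mul_one]
    split
    · rfl
    · rename_i hab
      push Not at hb
      have : a = i ∨ a = j := by omega
      rcases this with rfl | rfl <;> simp [*]

/-- A space of singular matrices of dimension at least four has one of rank at most one. -/
theorem exists_rankOne [FiniteDimensional F U] (hn : 4 ≤ Module.finrank F U) (h2 : (2 : F) ≠ 0)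
    (T : U →ₗ[F] M3) (hdet : ∀ u, (T u).det = 0) : ∃ u, u ≠ 0 ∧ RankOne (T u) := by
  classical
  by_contra hnone
  push Not at hnone
  obtain ⟨u₀, hu₀⟩ : ∃ u : U, u ≠ 0 := by
    by_contra hc
    push Not at hc
    haveI : Subsingleton U := ⟨fun x y => by rw [hc x, hc y]⟩
    have := Module.finrank_zero_of_subsingleton (R := F) (M := U)
    omega
  obtain ⟨L, L', D, hD⟩ := Matrix.Pivot.exists_list_transvec_mul_mul_list_transvec_eq_diagonal (T u₀)
  set P := (L.map Matrix.TransvectionStruct.toMatrix).prod
  set Q := (L'.map Matrix.TransvectionStruct.toMatrix).prod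
  have hP : P.det = 1 := Matrix.TransvectionStruct.det_toMatrix_prod L
  have hQ : Q.det = 1 := Matrix.TransvectionStruct.det_toMatrix_prod L'
  have hR : ∀ u, RankOne (P * T u * Q) → RankOne (T u) := by
    rintro u ⟨v, w, h⟩
    refine ⟨P⁻¹ *ᵥ v, w ᵥ* Q⁻¹, ?_⟩
    rw [← Matrix.vecMulVec_mul, ← Matrix.mul_vecMulVec, ← h, ← Matrix.mul_assoc, ← Matrix.mul_assoc,
      Matrix.nonsing_inv_mul P (by rw [hP]; exact isUnit_one), Matrix.one_mul, Matrix.mul_assoc,
      Matrix.mul_nonsing_inv Q (by rw [hQ]; exact isUnit_one), Matrix.mul_one]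
  have hprod : (Matrix.diagonal D).det = 0 := by
    rw [← hD, Matrix.det_mul, Matrix.det_mul, hdet]; ring
  rw [Matrix.det_diagonal, Finset.prod_eq_zero_iff] at hprod
  obtain ⟨i, -, hi⟩ := hprod
  have hne : ∀ j, j ≠ i → D j ≠ 0 := fun j hj e0 =>
    hnone u₀ hu₀ (hR u₀ (hD ▸ rankOne_diag hj e0 hi))
  set σ : Equiv.Perm (Fin 3) := Equiv.swap 2 i
  set d : Fin 3 → F := fun a => if a = 2 then 1 else (D (σ a))⁻¹
  let N : U →ₗ[F] M3 :=
    { toFun := fun u => Matrix.diagonal d * (P * T u * Q).submatrix σ σ
      map_add' := fun a b => by rw [map_add, Matrix.mul_add, Matrix.add_mul, Matrix.submatrix_add, Pi.add_apply, Pi.add_apply, Matrix.mul_add]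
      map_smul' := fun r a => by rw [map_smul, Matrix.mul_smul, Matrix.smul_mul, Matrix.submatrix_smul, Pi.smul_apply, Pi.smul_apply, Matrix.mul_smul, RingHom.id_apply] }
  have hd : ∀ a, d a ≠ 0 := fun a => by
    show (if a = 2 then (1 : F) else (D (σ a))⁻¹) ≠ 0
    split
    · exact one_ne_zero
    · rename_i ha
      refine inv_ne_zero (hne _ fun e0 => ha ?_)
      exact σ.injective (e0.trans (Equiv.swap_apply_left 2 i).symm)
  have he : N u₀ = Matrix.diagonal ![1, 1, 0] := by
    show Matrix.diagonal d * (P * T u₀ * Q).submatrix σ σ = _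
    rw [hD, Matrix.submatrix_diagonal_equiv, Matrix.diagonal_mul_diagonal]
    congr 1
    funext a
    have key : ∀ {a : Fin 3}, a ≠ 2 → D (σ a) ≠ 0 := fun {a} ha =>
      hne _ fun e0 => ha (σ.injective (e0.trans (Equiv.swap_apply_left 2 i).symm))
    fin_cases a
    · simpa [d] using inv_mul_cancel₀ (key (a := 0) (by decide))
    · simpa [d] using inv_mul_cancel₀ (key (a := 1) (by decide))
    · simp [d, σ, hi]
  obtain ⟨u, hu, v, w, h⟩ := core hn h2 N he fun u => by
    show (Matrix.diagonal d * (P * T u * Q).submatrix σ σ).det = 0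
    rw [Matrix.det_mul, Matrix.det_submatrix_equiv_self, Matrix.det_mul, Matrix.det_mul, hdet]; ring
  refine hnone u hu (hR u ⟨fun a => (d (σ a))⁻¹ * v (σ a), fun b => w (σ b), ?_⟩)
  ext a b
  have e := congrFun (congrFun h (σ a)) (σ b)
  have e' : d (σ a) * (P * T u * Q) (σ (σ a)) (σ (σ b)) = v (σ a) * w (σ b) := by
    simpa [N, Matrix.diagonal_mul, vecMulVec_apply] using e
  rw [Equiv.swap_apply_self, Equiv.swap_apply_self] at e'
  rw [vecMulVec_apply, mul_assoc (d (σ a))⁻¹, ← e', inv_mul_cancel_left₀ (hd _)]

end Cfsg.Agent.Lib.GeomSmallSp.OrthThree.Singular
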