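import Cfsg.Agent.Lib.GeomSmallSp.OrthThree.Pair
import Cfsg.Agent.Lib.GeomSmallSp.OrthThree.Singular

/-!
A proper overgroup of the stabiliser has a non-scalar root element.
-/

set_option autoImplicit false

namespace Cfsg.Agent.Lib.GeomSmallSp.OrthThree.Degenerate

open Matrix Kronecker
open Cfsg.Agent.Lib.Subspaces.Transvection Cfsg.Agent.Lib.Subspaces.FormVec
  Cfsg.Agent.Lib.TensorMax.Lemmas Cfsg.Agent.Lib.TensorFormMax.Basic
  Cfsg.Agent.Lib.TensorOrthMax.Side Cfsg.Agent.Lib.GeomSmallSp.OrthThree.Basic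
  Cfsg.Agent.Lib.GeomSmallSp.OrthThree.Side Cfsg.Agent.Lib.GeomSmallSp.OrthThree.Quad
  Cfsg.Agent.Lib.GeomSmallSp.OrthThree.Root Cfsg.Agent.Lib.GeomSmallSp.OrthThree.Block
  Cfsg.Agent.Lib.GeomSmallSp.OrthThree.Pair Cfsg.Agent.Lib.GeomSmallSp.OrthThree.Singular

variable {F : Type*} [Field F] {n : ℕ}

local notation "V1" => Fin n → F
local notation "V2" => Fin 3 → F
local notation "Vec" => Fin n × Fin 3 → F
local notation "Big" => Matrix (Fin n × Fin 3) (Fin n × Fin 3) F
local notation "G" => GL (Fin n × Fin 3) F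

variable {f₁ : (Fin n → F) → (Fin n → F) → F} {f₂ : (Fin 3 → F) → (Fin 3 → F) → F}
  {B : (Fin n × Fin 3 → F) → (Fin n × Fin 3 → F) → F} {M : Subgroup (GL (Fin n × Fin 3) F)}
  (D : Data f₁ f₂ B M)
include D

theorem proj_zero {a a₀ : V1} (h2 : n = 2) (ha : f₁ a₀ a = 1) (x : V1) : proj f₁ a a₀ x = 0 := by
  let L : (Fin 2 → F) →ₗ[F] V1 :=
    { toFun := fun c => c 0 • a + c 1 • a₀
      map_add' := fun c d => by simp only [Pi.add_apply]; module
      map_smul' := fun r c => by simp only [Pi.smul_apply, smul_eq_mul, RingHom.id_apply]; module }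
  have hinj : Function.Injective L := by
    rw [injective_iff_map_eq_zero]
    intro c hc
    have hc' : c 0 • a + c 1 • a₀ = 0 := hc
    have e1 := congrArg (fun v => f₁ v a) hc'
    have e2 := congrArg (fun v => f₁ v a₀) hc'
    simp [D.addL₁, D.smulL₁, D.zeroL₁, D.h1.alternating, ha, swap_pair D ha] at e1 e2
    funext i
    fin_cases i <;> assumption
  have hsurj : Function.Surjective L := by
    rw [← LinearMap.range_eq_top]
    refine Submodule.eq_top_of_finrank_eq ?_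
    rw [LinearMap.finrank_range_of_inj hinj, Module.finrank_fin_fun, Module.finrank_fin_fun, h2]
  obtain ⟨c, rfl⟩ := hsurj x
  show proj f₁ a a₀ (c 0 • a + c 1 • a₀) = 0
  rw [proj_add D ha, proj_smul D ha, proj_smul D ha, proj_line D ha, proj_top D ha, smul_zero, smul_zero,
    add_zero]

theorem decomp_two {a a₀ : V1} (h2 : n = 2) (ha : f₁ a₀ a = 1) (z : Vec) :
    z = tens a₀ (phi f₁ a z) + tens a (-phi f₁ a₀ z) := by
  refine sub_eq_zero.1 (D.phi_ext fun u => ?_)
  rw [D.phi_sub, D.phi_add, D.phi_tens, D.phi_tens]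
  conv_lhs => rw [decomp D ha u, proj_zero D h2 ha, add_zero, D.phi_addC, D.phi_smulC, D.phi_smulC, D.addR₁,
    D.addR₁, D.smulR₁, D.smulR₁, D.smulR₁, D.smulR₁, D.h1.alternating, D.h1.alternating, ha, swap_pair D ha]
  module

/-- The root element fixes the part of a block seen to be orthogonal to the contraction. -/
theorem root_fix {g : G} (hg : g ∈ M) {R : G} {a b : V1} (hRz : ∀ z, (R : Big) *ᵥ z = z + tens a (phi f₁ a z))
    {w : V2} (h : ∀ x, f₂ (cT D g a b x) w = 0) :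
    ((g * R * g⁻¹ : G) : Big) *ᵥ tens b w = tens b w := by
  have hm : phi f₁ a (((g⁻¹ : G) : Big) *ᵥ tens b w) = 0 := by
    refine D.sym.eq_zero fun x => ?_
    have e := h x
    rw [cT_apply, ← D.B_tens_right, D.isometry_inv hg, D.Bswap, D.B_tens_right, neg_eq_zero] at e
    rw [D.sym.comm, e]
  rw [gl_mul_mulVec, gl_mul_mulVec, hRz, hm, tens_zero_right, add_zero, gl_mulVec_inv]

theorem exists_root_of (a : V1) : ∃ R ∈ M, R ∈ Cfsg.Geo.kroneckerSubgroup n 3 F ∧
    ∀ z, (R : Big) *ᵥ z = z + tens a (phi f₁ a z) := by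
  obtain ⟨R, hR, hRk, hRz⟩ := D.exists_root a 1
  exact ⟨R, hR, hRk, fun z => by rw [hRz, one_smul]⟩

variable [Fintype F] (hS : AllScalar M f₁)
include hS

theorem zero_false {g : G} (hg : g ∈ M) (hgk : g ∉ Cfsg.Geo.kroneckerSubgroup n 3 F) {a b : V1} (ha : a ≠ 0)
    (hb : b ≠ 0) (h : ∀ x, cT D g a b x = 0) : False := by
  obtain ⟨R, hR, -, hRz⟩ := exists_root_of D a
  obtain ⟨b₀, hb₀⟩ := D.exists_partner hb
  refine root_not_kron D hS hg hgk ha hR hRz (mem_kron_of_fix D hS hb₀ (M.mul_mem (M.mul_mem hg hR) (M.inv_mem hg))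
    fun w => root_fix D hg hRz fun x => ?_)
  rw [h, D.sym.zeroL]

variable (hq : 5 ≤ Fintype.card F)
include hq

theorem singular {g : G} (hg : g ∈ M) (hgk : g ∉ Cfsg.Geo.kroneckerSubgroup n 3 F) {a b : V1} (ha : a ≠ 0)
    (hb : b ≠ 0) : ∃ x, x ≠ 0 ∧ cT D g a b x = 0 := by
  by_contra h
  push Not at h
  exact good_false D hq hS hg hgk ha hb ((injective_iff_map_eq_zero _).2 fun x hx => by
    by_contra hne
    exact h x hne hx)

/-- Some contraction has rank one. -/
theorem exists_line {g : G} (hg : g ∈ M) (hgk : g ∉ Cfsg.Geo.kroneckerSubgroup n 3 F) {a : V1} (ha : a ≠ 0)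
    (hn : n = 2 ∨ 4 ≤ n) : ∃ b, b ≠ 0 ∧ ∃ y, ∀ x, ∃ r : F, cT D g a b x = r • y := by
  classical
  have hf := D.sym
  rcases hn with h2 | h4
  swap
  · let T : V1 →ₗ[F] Matrix (Fin 3) (Fin 3) F :=
      { toFun := fun b => LinearMap.toMatrix' (cT D g a b)
        map_add' := fun b c => by
          rw [← map_add]; congr 1; exact LinearMap.ext fun x => D.phi_addC b c _
        map_smul' := fun r b => by
          rw [RingHom.id_apply, ← map_smul]; congr 1; exact LinearMap.ext fun x => D.phi_smulC r b _ }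
    have hT : ∀ b x, T b *ᵥ x = cT D g a b x := fun b x => by
      show LinearMap.toMatrix' (cT D g a b) *ᵥ x = _
      rw [← Matrix.toLin'_apply, Matrix.toLin'_toMatrix']
    obtain ⟨b, hb, v, w, hvw⟩ := exists_rankOne (F := F) (by rwa [Module.finrank_fin_fun]) hf.two T fun b => by
      by_contra hd
      rcases eq_or_ne b 0 with rfl | hb
      · rw [map_zero, Matrix.det_zero] at hd
        exact hd rfl
      obtain ⟨x, hx, hx0⟩ := singular D hS hq hg hgk ha hb
      exact hx (Matrix.eq_zero_of_mulVec_eq_zero hd ((hT b x).trans hx0))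
    exact ⟨b, hb, v, fun x => ⟨w ⬝ᵥ x, by rw [← hT, hvw, vecMulVec_mulVec, op_smul_eq_smul]⟩⟩
  -- two-dimensional alternating factor
  let InL : Vec → Prop := fun z => ∃ x, z = (g : Big) *ᵥ tens a x
  have hTI : ∀ {z z'}, InL z → InL z' → B z z' = 0 := by
    rintro _ _ ⟨x, rfl⟩ ⟨y, rfl⟩
    rw [D.iso g hg, D.B_tens, D.h1.alternating, zero_mul]
  have hpure : ∀ b : V1, b ≠ 0 → ∃ w, w ≠ 0 ∧ InL (tens b w) := by
    intro b hb
    obtain ⟨b₀, hb₀⟩ := D.exists_partner hb
    obtain ⟨x, hx, hx0⟩ := singular D hS hq hg hgk ha hb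
    rw [cT_apply] at hx0
    have hz := decomp_two D h2 hb₀ ((g : Big) *ᵥ tens a x)
    rw [hx0, tens_zero_right, zero_add] at hz
    refine ⟨_, fun e => hx ?_, x, hz.symm⟩
    rw [e, tens_zero_right, ← mulVec_zero (g : Big)] at hz
    by_contra hne
    exact tens_ne_zero ha hne (gl_mulVec_injective g hz)
  obtain ⟨b, hb⟩ := D.exists_nonzero
  obtain ⟨b₀, hb₀⟩ := D.exists_partner hb
  have hbb : f₁ b b₀ = -1 := swap_pair D hb₀
  let v : Fin 4 → V1 := ![b₀, b, b₀ + b, b₀ - b]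
  have hv : ∀ i j, i ≠ j → f₁ (v i) (v j) ≠ 0 := by
    have h2' := hf.two
    intro i j hij
    fin_cases i <;> fin_cases j <;> first
      | exact absurd rfl hij
      | (simp [v, D.addL₁, D.addR₁, D.subL₁, D.subR₁, D.h1.alternating, hb₀, hbb]) <;>
        first
          | done
          | (intro e; exact h2' (by linear_combination e))
          | (intro e; exact h2' (by linear_combination -e))
  have hv0 : ∀ i, v i ≠ 0 := fun i e => by
    obtain ⟨j, hj⟩ := exists_ne i
    exact hv i j hj.symm (by rw [e, D.zeroL₁])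
  choose w hw hwL using fun i => hpure (v i) (hv0 i)
  have horth : ∀ i j, i ≠ j → f₂ (w i) (w j) = 0 := fun i j hij => by
    have e := hTI (hwL i) (hwL j)
    rw [D.B_tens] at e
    exact (mul_eq_zero.1 e).resolve_left (hv i j hij)
  obtain ⟨i₀, hi₀⟩ : ∃ i, f₂ (w i) (w i) = 0 := by
    by_contra hc
    push Not at hc
    let L : (Fin 4 → F) →ₗ[F] V2 :=
      { toFun := fun c => ∑ i, c i • w i
        map_add' := fun c d => by simp [add_smul, Finset.sum_add_distrib]
        map_smul' := fun r c => by simp [Finset.smul_sum, smul_smul] }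
    have hinj : Function.Injective L := by
      rw [injective_iff_map_eq_zero]
      intro c hcL
      funext j
      let φ : V2 →+ F := AddMonoidHom.mk' (fun x => f₂ x (w j)) fun x y => hf.addL x y _
      have e : φ (L c) = 0 := by rw [hcL]; exact map_zero φ
      change φ (∑ i, c i • w i) = 0 at e
      rw [map_sum, Finset.sum_eq_single j (fun i _ hij => by
        show f₂ (c i • w i) (w j) = 0
        rw [hf.smulL, horth i j hij, mul_zero]) (by simp)] at e
      exact (mul_eq_zero.1 ((hf.smulL _ _ _).symm.trans e)).resolve_right (hc j)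
    have := LinearMap.finrank_le_finrank_of_injective hinj
    rw [Module.finrank_fin_fun, Module.finrank_fin_fun] at this
    omega
  obtain ⟨e, w', h⟩ := exists_hyp_of hf (hw i₀) hi₀
  set w₀ := w i₀
  -- a second block vector on the same line
  obtain ⟨k, hk, hkw⟩ : ∃ k, k ≠ i₀ ∧ f₂ (w k) e = 0 := by
    obtain ⟨j, l, hj, hl, hjl⟩ := (show ∀ i : Fin 4, ∃ j l : Fin 4, j ≠ i ∧ l ≠ i ∧ j ≠ l by decide) i₀
    have e1 := horth j l hjl
    rw [h.form_eq hf, horth j i₀ hj, horth l i₀ hl, mul_zero, zero_mul, zero_add, add_zero, div_eq_zero_iff,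
      or_iff_left h.ee, mul_eq_zero] at e1
    rcases e1 with e1 | e1
    exacts [⟨j, hj, e1⟩, ⟨l, hl, e1⟩]
  set c := f₂ (w k) w'
  have hkc : w k = c • w₀ := by
    conv_lhs => rw [h.perp_eq hf (horth k i₀ hk), hkw, zero_div, zero_smul, add_zero]
  have hc : c ≠ 0 := fun e0 => hw k (by rw [hkc, e0, zero_smul])
  have hall : ∀ u, InL (tens u w₀) := by
    intro u
    set t := f₁ (v k) (v i₀)
    have ht : f₁ (t⁻¹ • v k) (v i₀) = 1 := by rw [D.smulL₁, inv_mul_cancel₀ (hv k i₀ hk)]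
    obtain ⟨x₀, hx₀⟩ := hwL i₀
    obtain ⟨x₁, hx₁⟩ := hwL k
    refine ⟨(f₁ u (v i₀) * t⁻¹ * c⁻¹) • x₁ + (-(f₁ u (t⁻¹ • v k))) • x₀, ?_⟩
    conv_lhs => rw [decomp D ht u, proj_zero D h2 ht, add_zero]
    rw [tens_add_right, tens_smul_right, tens_smul_right, mulVec_add, mulVec_smul, mulVec_smul, ← hx₀, ← hx₁, hkc,
      tens_smul_right, tens_add_left, tens_smul_left, tens_smul_left, tens_smul_left, smul_smul, smul_smul,
      inv_mul_cancel_right₀ hc]
  let ce : Vec → V1 := fun z => ctr (formVec f₂ e) z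
  have hphi : ∀ z, InL z → ∀ u, phi f₁ u z = f₂ (phi f₁ u z) w' • w₀ + (f₁ (ce z) u / f₂ e e) • e := by
    intro z hz u
    have e1 : f₂ (phi f₁ u z) w₀ = 0 := by rw [← D.B_tens_right]; exact hTI hz (hall u)
    conv_lhs => rw [h.perp_eq hf e1, show f₂ (phi f₁ u z) e = f₁ (ce z) u by rw [← D.B_tens_right, D.hB]]
  have hce : ∀ z z', InL z → InL z' → f₁ (ce z) (ce z') = 0 := by
    intro z z' hz hz'
    have hdec : z' = tens (ctr (formVec f₂ w') z') w₀ + tens ((f₂ e e)⁻¹ • ce z') e := by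
      refine sub_eq_zero.1 (D.phi_ext fun u => ?_)
      rw [D.phi_sub, D.phi_add, D.phi_tens, D.phi_tens, D.smulL₁, ← D.hB z' u w', D.B_tens_right]
      conv_lhs => arg 1; rw [hphi z' hz' u, div_eq_inv_mul]
      abel
    have e1 := hTI hz hz'
    rw [hdec, D.addR, hTI hz (hall _), zero_add, D.hB] at e1
    rw [D.smulR₁] at e1
    exact (mul_eq_zero.1 e1).resolve_left (inv_ne_zero h.ee)
  have key : ∀ b', b' ≠ 0 → (∀ z, InL z → f₁ (ce z) b' = 0) →
      ∃ b, b ≠ 0 ∧ ∃ y, ∀ x, ∃ r : F, cT D g a b x = r • y := fun b' hb' hz =>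
    ⟨b', hb', w₀, fun x => ⟨f₂ (phi f₁ b' ((g : Big) *ᵥ tens a x)) w', by
      rw [cT_apply]
      conv_lhs => rw [hphi _ ⟨x, rfl⟩ b', hz _ ⟨x, rfl⟩, zero_div, zero_smul, add_zero]⟩⟩
  by_cases hz : ∃ z, InL z ∧ ce z ≠ 0
  · obtain ⟨z₀, hz₀, hne⟩ := hz
    exact key _ hne fun z hz => hce z z₀ hz hz₀
  · push Not at hz
    exact key b hb fun z hz' => by rw [hz z hz', D.zeroL₁]

omit hq in
/-- In a two-dimensional alternating factor the image of the block is determined. -/
theorem image_two (hq' : 5 ≤ Fintype.card F) (h2 : n = 2) {g R : G} (hg : g ∈ M)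
    (hgk : g ∉ Cfsg.Geo.kroneckerSubgroup n 3 F) {a b b₀ : V1} (ha : a ≠ 0) (hb₀ : f₁ b₀ b = 1)
    (hR : R ∈ M) (hRz : ∀ z, (R : Big) *ᵥ z = z + tens a (phi f₁ a z)) {y w₁ : V2} (hy : f₂ w₁ y = 1)
    (hT : ∀ x, ∃ r : F, cT D g a b x = r • y) :
    ∃ (k : F) (π : V2), k ≠ 0 ∧ f₂ π y = 0 ∧
      ((g * R * g⁻¹ : G) : Big) *ᵥ tens b w₁ = tens b₀ (k • y) + tens b π := by
  have hf := D.sym
  have hb : b ≠ 0 := fun e => by rw [e, D.zeroR₁] at hb₀; exact zero_ne_one hb₀
  set S := g * R * g⁻¹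
  have hSm : S ∈ M := M.mul_mem (M.mul_mem hg hR) (M.inv_mem hg)
  have hSk : S ∉ Cfsg.Geo.kroneckerSubgroup n 3 F := root_not_kron D hS hg hgk ha hR hRz
  have hfix : ∀ w, f₂ w y = 0 → (S : Big) *ᵥ tens b w = tens b w := fun w hw => root_fix D hg hRz fun x => by
    obtain ⟨r, hr⟩ := hT x
    rw [hr, hf.smulL, hf.comm w y, hw, mul_zero]
  set Y := (S : Big) *ᵥ tens b w₁
  have hperp : ∀ c, f₁ b c ≠ 0 → f₂ (phi f₁ c Y) y = 0 := by
    intro c hc
    obtain ⟨x, hx, hx0⟩ := singular D hS hq' hSm hSk hb (b := c) fun e => hc (by rw [e, D.zeroR₁])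
    set l := f₂ x y
    have hπ : f₂ (x - l • w₁) y = 0 := by rw [hf.subL, hf.smulL, hy, mul_one, sub_self]
    rw [cT_apply, show x = (x - l • w₁) + l • w₁ by abel, tens_add_right, tens_smul_right, mulVec_add,
      mulVec_smul, hfix _ hπ, D.phi_add, D.phi_smul, D.phi_tens] at hx0
    have hl : l ≠ 0 := fun e => by
      rw [e, zero_smul, zero_smul, add_zero, sub_zero] at hx0
      exact hx ((smul_eq_zero.1 hx0).resolve_left hc)
    have e := congrArg (fun v => f₂ v y) hx0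
    simp only [hf.addL, hf.smulL, hπ, hf.zeroL, mul_zero, zero_add] at e
    exact (mul_eq_zero.1 e).resolve_left hl
  have hperp' : ∀ c, f₂ (phi f₁ c Y) y = 0 := by
    intro c
    rcases eq_or_ne (f₁ b c) 0 with hc | hc
    · have e1 := hperp b₀ (by rw [swap_pair D hb₀]; exact neg_ne_zero.2 one_ne_zero)
      have e2 := hperp (c + b₀) (by rw [D.addR₁, hc, zero_add, swap_pair D hb₀]; exact neg_ne_zero.2 one_ne_zero)
      rwa [D.phi_addC, hf.addL, e1, add_zero] at e2
    · exact hperp c hc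
  have hY : ∀ w, f₂ w y = 0 → f₂ (phi f₁ b Y) w = 0 := fun w hw => by
    rw [← D.B_tens_right, ← hfix w hw, D.iso S hSm, D.B_tens, D.h1.alternating, zero_mul]
  -- orthogonal to the orthogonal of `y`
  have hline : phi f₁ b Y = f₂ (phi f₁ b Y) w₁ • y := hf.sf.eq_of_left fun u => by
    have e := hY (u - f₂ u y • w₁) (by rw [hf.subL, hf.smulL, hy, mul_one, sub_self])
    rw [hf.subR, hf.smulR] at e
    rw [hf.smulL, hf.comm u y]
    linear_combination e
  refine ⟨f₂ (phi f₁ b Y) w₁, -phi f₁ b₀ Y, fun e => ?_, by rw [hf.negL, hperp', neg_zero], ?_⟩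
  · have hd := decomp_two D h2 hb₀ Y
    rw [hline, e, zero_smul, tens_zero_right, zero_add, ← hfix _ (by rw [hf.negL, hperp', neg_zero])] at hd
    have := tens_eq_tens hb (gl_mulVec_injective S hd)
    rw [this, hf.negL, hperp', neg_zero] at hy
    exact zero_ne_one hy
  · conv_lhs => rw [decomp_two D h2 hb₀ Y, hline]

theorem false_of_mem {g : G} (hg : g ∈ M) (hgk : g ∉ Cfsg.Geo.kroneckerSubgroup n 3 F) (hn : n = 2 ∨ 4 ≤ n) :
    False := by
  classical
  have hf := D.sym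
  obtain ⟨a, ha⟩ := D.exists_nonzero
  obtain ⟨b, hb, y, hT⟩ := exists_line D hS hq hg hgk ha hn
  obtain ⟨b₀, hb₀⟩ := D.exists_partner hb
  have hy0 : y ≠ 0 := fun e => zero_false D hS hg hgk ha hb fun x => by
    obtain ⟨r, hr⟩ := hT x
    rw [hr, e, smul_zero]
  obtain ⟨w₁, hw₁⟩ := hf.sf.exists_one hy0
  obtain ⟨R, hR, -, hRz⟩ := exists_root_of D a
  set S := g * R * g⁻¹
  have hSm : S ∈ M := M.mul_mem (M.mul_mem hg hR) (M.inv_mem hg)
  have hSk : S ∉ Cfsg.Geo.kroneckerSubgroup n 3 F := root_not_kron D hS hg hgk ha hR hRz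
  have hfix : ∀ w, f₂ w y = 0 → (S : Big) *ᵥ tens b w = tens b w := fun w hw => root_fix D hg hRz fun x => by
    obtain ⟨r, hr⟩ := hT x
    rw [hr, hf.smulL, hf.comm w y, hw, mul_zero]
  have hsplit : ∀ (c : V1) x, cT D S b c x =
      f₁ b c • (x - f₂ x y • w₁) + f₂ x y • phi f₁ c ((S : Big) *ᵥ tens b w₁) := fun c x => by
    conv_lhs => rw [cT_apply, show x = (x - f₂ x y • w₁) + f₂ x y • w₁ by abel, tens_add_right, tens_smul_right,
      mulVec_add, mulVec_smul, hfix _ (by rw [hf.subL, hf.smulL, hw₁, mul_one, sub_self]), D.phi_add, D.phi_smul,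
      D.phi_tens]
  rcases hn with h2 | h4
  · obtain ⟨k, π, hk, hπ, hY⟩ := image_two D hS hq h2 hg hgk ha hb₀ hR hRz hw₁ hT
    obtain ⟨R', hR', -, hR'z⟩ := exists_root_of D b
    have hT' : ∀ x, ∃ r : F, cT D S b b x = r • y := fun x => ⟨f₂ x y * k, by
      rw [hsplit, D.h1.alternating, zero_smul, zero_add, hY, D.phi_add, D.phi_tens, D.phi_self, hb₀, one_smul,
        add_zero, smul_smul]⟩
    obtain ⟨k', π', hk', hπ', hY'⟩ := image_two D hS hq h2 hSm hSk hb hb₀ hR' hR'z hw₁ hT'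
    set S' := S * R' * S⁻¹
    set x := (k' / k) • w₁ + (π' - (k' / k) • π)
    have hx : (S : Big) *ᵥ tens b x = tens b₀ (k' • y) + tens b π' := by
      rw [tens_add_right, tens_smul_right, mulVec_add, mulVec_smul, hY,
        hfix _ (by rw [hf.subL, hf.smulL, hπ, hπ', mul_zero, sub_zero]), smul_add, ← tens_smul_right,
        ← tens_smul_right, smul_smul, div_mul_cancel₀ _ hk, add_assoc, ← tens_add_right]
      congr 2
      module
    have h1 : (S' : Big) *ᵥ ((S : Big) *ᵥ tens b x) = (S : Big) *ᵥ tens b x := by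
      rw [gl_mul_mulVec, gl_mul_mulVec, gl_inv_mulVec, hR'z, D.phi_self, tens_zero_right, add_zero]
    have h2' : tens b w₁ = (S : Big) *ᵥ tens b x := by
      refine gl_mulVec_injective S' ?_
      show (S' : Big) *ᵥ _ = (S' : Big) *ᵥ _
      rw [h1, hx]
      exact hY'
    have e := congrArg (phi f₁ b) (h2'.trans hx)
    rw [D.phi_self, D.phi_add, D.phi_tens, D.phi_self, hb₀, one_smul, add_zero] at e
    exact hy0 ((smul_eq_zero.1 e.symm).resolve_left hk')
  -- a contraction killing the whole image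
  set Y := (S : Big) *ᵥ tens b w₁
  have hperp' : ∀ c, f₁ b c ≠ 0 → f₂ (phi f₁ c Y) y = 0 := by
    intro c hc
    obtain ⟨x, hx, hx0⟩ := singular D hS hq hSm hSk hb (b := c) fun e => hc (by rw [e, D.zeroR₁])
    rw [hsplit] at hx0
    have hl : f₂ x y ≠ 0 := fun e => by
      rw [e, zero_smul, zero_smul, add_zero, sub_zero] at hx0
      exact hx ((smul_eq_zero.1 hx0).resolve_left hc)
    have e := congrArg (fun v => f₂ v y) hx0
    simp only [hf.addL, hf.smulL, hf.subL, hw₁, hf.zeroL, mul_one, sub_self, mul_zero, zero_add] at e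
    exact (mul_eq_zero.1 e).resolve_left hl
  have hperp : ∀ c, f₂ (phi f₁ c Y) y = 0 := by
    intro c
    rcases eq_or_ne (f₁ b c) 0 with hc | hc
    · have e1 := hperp' b₀ (by rw [swap_pair D hb₀]; exact neg_ne_zero.2 one_ne_zero)
      have e2 := hperp' (c + b₀) (by rw [D.addR₁, hc, zero_add, swap_pair D hb₀]; exact neg_ne_zero.2 one_ne_zero)
      rwa [D.phi_addC, hf.addL, e1, add_zero] at e2
    · exact hperp' c hc
  let ψ : V2 →ₗ[F] F :=
    { toFun := fun v => f₂ v y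
      map_add' := fun u v => hf.addL u v y
      map_smul' := fun r v => hf.smulL r v y }
  let L : V1 →ₗ[F] F × LinearMap.ker ψ :=
    { toFun := fun c => (f₁ b c, ⟨phi f₁ c Y, hperp c⟩)
      map_add' := fun c d => Prod.ext (D.addR₁ _ _ _) (Subtype.ext (D.phi_addC _ _ _))
      map_smul' := fun r c => Prod.ext (D.smulR₁ _ _ _) (Subtype.ext (D.phi_smulC _ _ _)) }
  have hker : Module.finrank F (LinearMap.ker ψ) = 2 := by
    have h := LinearMap.finrank_range_add_finrank_ker ψ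
    rw [Module.finrank_fin_fun, show LinearMap.range ψ = ⊤ from LinearMap.range_eq_top.2 fun r =>
      ⟨r • w₁, by show f₂ (r • w₁) y = r; rw [hf.smulL, hw₁, mul_one]⟩, finrank_top, Module.finrank_self] at h
    omega
  obtain ⟨c, hcL, hc⟩ : ∃ c, c ∈ LinearMap.ker L ∧ c ≠ 0 := by
    refine Submodule.exists_mem_ne_zero_of_ne_bot fun e => ?_
    have := LinearMap.finrank_le_finrank_of_injective (LinearMap.ker_eq_bot.1 e)
    rw [Module.finrank_fin_fun, Module.finrank_prod, Module.finrank_self, hker] at this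
    omega
  have hc1 : f₁ b c = 0 := congrArg Prod.fst hcL
  have hc2 : phi f₁ c Y = 0 := congrArg (fun p => ((Prod.snd p : LinearMap.ker ψ) : V2)) hcL
  exact zero_false D hS hSm hSk hb hc fun x => by rw [hsplit, hc1, zero_smul, zero_add, hc2, smul_zero]

end Cfsg.Agent.Lib.GeomSmallSp.OrthThree.Degenerate
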