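import Cfsg.Agent.Lib.GeomSmallSp.OrthThree.Degenerate
import Cfsg.Agent.Lib.Forms.TensorFrame
import Cfsg.Agent.Lib.Subspaces.SympGen

/-!
The stabiliser of a tensor product of an alternating and a three-dimensional symmetric form is maximal in the
symplectic group, in odd characteristic and at least five field elements.
-/

set_option autoImplicit false

namespace Cfsg.Agent.Lib.GeomSmallSp.OrthThree.Main

open Matrix Kronecker
open Cfsg.Agent.Lib.Subspaces.Transvection Cfsg.Agent.Lib.Subspaces.FormVec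
  Cfsg.Agent.Lib.Subspaces.SympGen Cfsg.Agent.Lib.Subspaces.SympCenters
  Cfsg.Agent.Lib.TensorMax.Lemmas Cfsg.Agent.Lib.TensorFormMax.Basic Cfsg.Agent.Lib.TensorMax.Block
  Cfsg.Agent.Lib.Forms.TensorFrame
  Cfsg.Agent.Lib.TensorOrthMax.Side Cfsg.Agent.Lib.GeomSmallSp.OrthThree.Basic
  Cfsg.Agent.Lib.GeomSmallSp.OrthThree.Root

variable {F : Type*} [Field F] [Fintype F]

/-- An overgroup lies in the stabiliser or has every transvection. -/
theorem dichotomy {n : ℕ} {f₁ : (Fin n → F) → (Fin n → F) → F} {f₂ : (Fin 3 → F) → (Fin 3 → F) → F}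
    {B : (Fin n × Fin 3 → F) → (Fin n × Fin 3 → F) → F} {M : Subgroup (GL (Fin n × Fin 3) F)}
    (D : Data f₁ f₂ B M) (hq : 5 ≤ Fintype.card F) (hn : n = 2 ∨ 4 ≤ n) :
    M ≤ Cfsg.Geo.kroneckerSubgroup n 3 F ∨ ∀ v, SympCenter B M v := by
  by_cases hS : AllScalar M f₁
  · refine Or.inl fun g hg => ?_
    by_contra hgk
    exact Degenerate.false_of_mem D hS hq hg hgk hn
  · exact Or.inr (all_centers D hq hS)

theorem two_ne_zero_of_odd (hodd : Odd (Fintype.card F)) : (2 : F) ≠ 0 :=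
  Ring.two_ne_zero fun h => by
    have := FiniteField.even_card_iff_char_two.mp h
    exact Nat.not_even_iff_odd.mpr hodd (Nat.even_iff.mpr this)

/-- A symplectic space has even dimension, here at least two. -/
theorem dim_cases {n : ℕ} {f : (Fin n → F) → (Fin n → F) → F} (hf : Cfsg.Geo.IsSymplecticForm f)
    (h2 : (2 : F) ≠ 0) : n ≠ 1 ∧ n ≠ 3 := by
  -- the Gram matrix is skew and invertible
  have hskew : (Cfsg.Geo.gramMatrix f)ᵀ = -Cfsg.Geo.gramMatrix f := by
    ext i j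
    exact hf.skew _ _
  have hdet : (Cfsg.Geo.gramMatrix f).det ≠ 0 := by
    intro h0
    obtain ⟨v, hv, hv0⟩ := Matrix.exists_mulVec_eq_zero_iff.2 h0
    obtain ⟨⟨x, hx⟩, -⟩ := hf.nondegenerate v hv
    apply hx
    rw [eq_formOfGram (isLinearLeft_of_bilinear hf.bilinear) hf.bilinear.add_right
      hf.bilinear.smul_right x v, Cfsg.Geo.formOfGram]
    have hv' : ∀ i, ∑ j, Cfsg.Geo.gramMatrix f i j * v j = 0 := fun i => congrFun hv0 i
    rw [Finset.sum_eq_zero]
    intro i _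
    rw [← mul_zero (x i), ← hv' i, Finset.mul_sum]
    exact Finset.sum_congr rfl fun j _ => mul_assoc _ _ _
  have h := congrArg Matrix.det hskew
  rw [Matrix.det_transpose, Matrix.det_neg, Fintype.card_fin] at h
  refine ⟨?_, ?_⟩ <;>
  · intro hn
    have hp : (-1 : F) ^ n = -1 := by rw [hn]; norm_num
    rw [hp] at h
    exact hdet ((mul_eq_zero.1 (show (2 : F) * _ = 0 by linear_combination h)).resolve_left h2)

/-- The stabiliser of an alternating by three-dimensional symmetric tensor decomposition is maximal. -/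
theorem maximal (m : ℕ) (hodd : Odd (Fintype.card F)) (hq : 5 ≤ Fintype.card F) (n : ℕ) (h1 : 2 ≤ n)
    (e : (Fin m ⊕ Fin m) ≃ Fin n × Fin 3) (P : GL (Fin m ⊕ Fin m) F)
    (f₁ : (Fin n → F) → (Fin n → F) → F) (f₂ : (Fin 3 → F) → (Fin 3 → F) → F)
    (hf₁ : Cfsg.Geo.IsSymplecticForm f₁) (hf₂ : Cfsg.Geo.IsSymmetricForm f₂)
    (hT : Cfsg.Geo.IsTensorFormStructure id (Cfsg.sympForm m F) f₁ f₂ e P) :
    Cfsg.Geo.IsMaximalIn (Cfsg.spGL m F) (Cfsg.Geo.tensorProductSubgroup n 3 e P ⊓ Cfsg.spGL m F) := by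
  classical
  have htwo := two_ne_zero_of_odd hodd
  have hn : n = 2 ∨ 4 ≤ n := by
    obtain ⟨-, h3⟩ := dim_cases hf₁ htwo
    omega
  have hf := sympForm_isSymplectic (F := F) m
  set f := Cfsg.sympForm m F
  have hl1 := isLinearLeft_of_bilinear hf₁.bilinear
  have hl2 := isLinearLeft_of_bilinear hf₂.bilinear
  obtain ⟨c, hc, hBp⟩ := form_pure (f := f) (σ := id) (fun _ _ => rfl)
    (eq_formOfGram hl1 hf₁.bilinear.add_right hf₁.bilinear.smul_right)
    (eq_formOfGram hl2 hf₂.bilinear.add_right hf₂.bilinear.smul_right) hT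
  set φ : GL (Fin n × Fin 3) F ≃* GL (Fin m ⊕ Fin m) F :=
    (Cfsg.Geo.glReindex (F := F) e.symm).trans (MulAut.conj P) with hφ
  let T : (Fin n × Fin 3 → F) →ₗ[F] (Fin m ⊕ Fin m → F) :=
    (Matrix.mulVecLin (P : Matrix (Fin m ⊕ Fin m) (Fin m ⊕ Fin m) F)).comp (LinearMap.funLeft F F e)
  have hTapp : ∀ z, T z = (P : Matrix (Fin m ⊕ Fin m) (Fin m ⊕ Fin m) F) *ᵥ (z ∘ e) := fun z => rfl
  have hTsurj : Function.Surjective T := fun x =>
    ⟨(((P⁻¹ : GL (Fin m ⊕ Fin m) F) : Matrix (Fin m ⊕ Fin m) (Fin m ⊕ Fin m) F) *ᵥ x) ∘ e.symm, by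
      rw [hTapp]
      conv_rhs => rw [← gl_mulVec_inv P x]
      congr 1
      funext i; simp⟩
  have hφT : ∀ g z, (φ g : Matrix (Fin m ⊕ Fin m) (Fin m ⊕ Fin m) F) *ᵥ T z =
      T ((g : Matrix (Fin n × Fin 3) (Fin n × Fin 3) F) *ᵥ z) := by
    intro g z
    rw [hTapp, hTapp]
    show ((P * Cfsg.Geo.glReindex e.symm g * P⁻¹ : GL (Fin m ⊕ Fin m) F) : Matrix (Fin m ⊕ Fin m) (Fin m ⊕ Fin m) F) *ᵥ _ = _
    rw [gl_mul_mulVec, gl_mul_mulVec, gl_inv_mulVec]
    congr 1
    show (Matrix.reindexAlgEquiv F F e.symm) (g : Matrix (Fin n × Fin 3) (Fin n × Fin 3) F) *ᵥ _ = _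
    rw [Matrix.reindexAlgEquiv_apply, Matrix.reindex_apply, Equiv.symm_symm, Matrix.submatrix_mulVec_equiv]
    congr 1
    congr 1
    funext p; simp
  set B : (Fin n × Fin 3 → F) → (Fin n × Fin 3 → F) → F := fun x y => c⁻¹ * f (T x) (T y) with hB
  have hc' : c⁻¹ ≠ 0 := inv_ne_zero hc
  have hlin : IsLinearLeft B :=
    ⟨fun x y v => by simp only [hB, map_add, hf.bilinear.add_left]; ring,
      fun a x v => by simp only [hB, map_smul, hf.bilinear.smul_left]; ring⟩
  have haddR : ∀ x y z, B x (y + z) = B x y + B x z := fun x y z => by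
    simp only [hB, map_add, hf.bilinear.add_right]; ring
  have hB0 : ∀ u w u' w', B (tens u w) (tens u' w') = f₁ u u' * f₂ w w' := by
    intro u w u' w'
    show c⁻¹ * f (pure e P u w) (pure e P u' w') = _
    rw [hBp, inv_mul_cancel_left₀ hc]
  have hBz : ∀ z u w, B z (tens u w) = f₁ (ctr (formVec f₂ w) z) u := by
    intro z u w
    let L : (Fin n × Fin 3 → F) →+ F := AddMonoidHom.mk' (fun x => B x (tens u w))
      fun x y => hlin.add_left x y _
    let R : (Fin n → F) →+ F := AddMonoidHom.mk' (fun x => f₁ x u) fun x y => hl1.add_left x y u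
    have hctr : ctr (formVec f₂ w) z = ∑ i, f₂ (slice z i) w • (Pi.single i 1 : Fin n → F) := by
      funext i
      simp [ctr_eq_dot, formVec_dot hl2, Pi.single_apply, Finset.sum_apply]
    conv_lhs => rw [← sum_tens_slice z]
    show L _ = R _
    rw [hctr, map_sum, map_sum]
    refine Finset.sum_congr rfl fun i _ => ?_
    show B _ _ = f₁ _ u
    rw [hB0, hl1.smul_left, mul_comm]
  have hsym : Sym f₂ :=
    ⟨{ invol := fun _ => rfl, lin := hl2
       swap := fun x y => by rw [RingHom.id_apply, one_mul]; exact (hf₂.symm x y).symm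
       nondeg := fun v hv => (hf₂.nondegenerate v hv).1 }, htwo⟩
  have hisoB : ∀ (g : GL (Fin n × Fin 3) F) x y, B ((g : Matrix (Fin n × Fin 3) _ F) *ᵥ x)
      ((g : Matrix (Fin n × Fin 3) _ F) *ᵥ y) =
      c⁻¹ * f ((φ g : Matrix (Fin m ⊕ Fin m) _ F) *ᵥ T x) ((φ g : Matrix (Fin m ⊕ Fin m) _ F) *ᵥ T y) :=
    fun g x y => by rw [hφT, hφT]
  have hmem : ∀ x, φ x ∈ Cfsg.Geo.tensorProductSubgroup n 3 e P ↔ x ∈ Cfsg.Geo.kroneckerSubgroup n 3 F := by
    intro x
    constructor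
    · rintro ⟨y, ⟨z, hz, rfl⟩, hy⟩
      have : φ z = φ x := hy
      rwa [← φ.injective this]
    · exact fun hx => ⟨_, ⟨x, hx, rfl⟩, rfl⟩
  have hdata : ∀ M : Subgroup (GL (Fin m ⊕ Fin m) F), M ≤ Cfsg.spGL m F →
      Cfsg.Geo.tensorProductSubgroup n 3 e P ⊓ Cfsg.spGL m F ≤ M → Data f₁ f₂ B (M.comap φ.toMonoidHom) := by
    intro M hMle hM
    exact
      { h1 := hf₁, sym := hsym, lin := hlin, addR := haddR
        Bswap := fun x y => by simp only [hB]; rw [hf.skew (T y) (T x)]; ring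
        hB := hBz
        iso := fun g hg x y => (hisoB g x y).trans
          (congrArg (c⁻¹ * ·) (mem_spGL_iff.1 (hMle (show φ g ∈ M from hg)) (T x) (T y)))
        stab := fun g hg hi => hM ⟨(hmem _).2 hg, mem_spGL_iff.2 fun x y => by
          obtain ⟨x, rfl⟩ := hTsurj x
          obtain ⟨y, rfl⟩ := hTsurj y
          exact mul_left_cancel₀ hc' ((hisoB g x y).symm.trans (hi x y))⟩
        hn := h1 }
  have hall : ∀ M : Subgroup (GL (Fin m ⊕ Fin m) F), M ≤ Cfsg.spGL m F →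
      Cfsg.Geo.tensorProductSubgroup n 3 e P ⊓ Cfsg.spGL m F ≤ M →
      (∀ v, SympCenter B (M.comap φ.toMonoidHom) v) → M = Cfsg.spGL m F := by
    intro M hMle hM hv
    refine le_antisymm hMle (spGL_le fun p a => ?_)
    obtain ⟨p, rfl⟩ := hTsurj p
    have hg : φ (tv p ((c * a) • formVec B p)) ∈ M := hv p (c * a)
    have hBsym : Cfsg.Geo.IsSymplecticForm B := (hdata M hMle hM).B_symp
    rwa [show φ (tv p ((c * a) • formVec B p)) = tv (T p) (a • formVec f (T p)) from gl_ext fun x => by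
      obtain ⟨x, rfl⟩ := hTsurj x
      rw [hφT, stv_mulVec hBsym, stv_mulVec hf, map_add, map_smul]
      congr 2
      show c * a * (c⁻¹ * f (T x) (T p)) = _
      field_simp] at hg
  refine ⟨lt_of_le_of_ne inf_le_right fun heq => ?_, fun M hM hMle => ?_⟩
  · -- a transvection is no tensor product
    have D := hdata (Cfsg.spGL m F) le_rfl inf_le_right
    have hf2 := D.sym
    obtain ⟨w, e₀, w', h⟩ := Side.exists_hyp hf2
    obtain ⟨b, hb⟩ := D.exists_nonzero
    obtain ⟨b₀, hb₀⟩ := D.exists_partner hb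
    set g := tv (tens b w) ((1 : F) • formVec B (tens b w)) with hg
    have hgk : g ∈ Cfsg.Geo.kroneckerSubgroup n 3 F := by
      refine (hmem g).1 ?_
      have hmemK : φ g ∈ Cfsg.spGL m F := mem_spGL_iff.2 fun x y => by
        obtain ⟨x, rfl⟩ := hTsurj x
        obtain ⟨y, rfl⟩ := hTsurj y
        exact mul_left_cancel₀ hc' ((hisoB g x y).symm.trans (stv_isometry D.B_symp _ _ x y))
      rw [← heq] at hmemK
      exact hmemK.1
    have hfix : ∀ x, (g : Matrix (Fin n × Fin 3) _ F) *ᵥ tens b x = tens b x := fun x => by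
      rw [hg, stv_mulVec D.B_symp, D.B_tens, D.h1.alternating, zero_mul, mul_zero, zero_smul, add_zero]
    obtain ⟨α, hα⟩ := Block.kron_of_fix D hgk hb (c := b) hfix
    have e1 := hα b₀ w
    have e2 := hα b₀ w'
    rw [hg, stv_mulVec D.B_symp, D.B_tens, hb₀] at e1 e2
    simp only [one_mul, h.ww, zero_smul, add_zero, show f₂ w' w = 1 by rw [hf2.comm, h.wv], one_smul] at e1 e2
    have hαb : α b₀ = b₀ := by
      obtain ⟨i, hi⟩ := Function.ne_iff.1 (h.w_ne hf2)
      funext j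
      exact (mul_right_cancel₀ hi (congrFun e1 (j, i))).symm
    rw [hαb, add_eq_left] at e2
    exact tens_ne_zero hb (h.w_ne hf2) e2
  · have D := hdata M hMle hM
    rcases dichotomy D hq hn with h | h
    · refine Or.inl (le_antisymm (fun x hx => ⟨?_, hMle hx⟩) hM)
      have := (hmem _).2 (h (show φ.symm x ∈ M.comap φ.toMonoidHom by
        show φ (φ.symm x) ∈ M; rwa [φ.apply_symm_apply]))
      rwa [φ.apply_symm_apply] at this
    · exact Or.inr (hall M hMle hM h)

end Cfsg.Agent.Lib.GeomSmallSp.OrthThree.Main
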