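import Cfsg.Agent.Lib.GeomSmallSp.OrthThree.Side

/-!
Isometries of the alternating factor and the subspace of root elements with a given centre.
-/

set_option autoImplicit false

namespace Cfsg.Agent.Lib.GeomSmallSp.OrthThree.Move

open Matrix Kronecker
open Cfsg.Agent.Lib.Subspaces.Transvection Cfsg.Agent.Lib.Subspaces.FormVec
  Cfsg.Agent.Lib.TensorMax.Lemmas Cfsg.Agent.Lib.TensorFormMax.Basic
  Cfsg.Agent.Lib.TensorOrthMax.Side Cfsg.Agent.Lib.GeomSmallSp.OrthThree.Basic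

variable {F : Type*} [Field F] {n : ℕ}

local notation "V1" => Fin n → F
local notation "V2" => Fin 3 → F
local notation "Vec" => Fin n × Fin 3 → F
local notation "Big" => Matrix (Fin n × Fin 3) (Fin n × Fin 3) F
local notation "G" => GL (Fin n × Fin 3) F

variable {f₁ : (Fin n → F) → (Fin n → F) → F} {f₂ : (Fin 3 → F) → (Fin 3 → F) → F}
  {B : (Fin n × Fin 3 → F) → (Fin n × Fin 3 → F) → F} {M : Subgroup (GL (Fin n × Fin 3) F)}
  (D : Data f₁ f₂ B M)
include D

/-- Transitivity on non-zero vectors. -/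
theorem exists_smul_eq {b c : V1} (hb : b ≠ 0) (hc : c ≠ 0) :
    ∃ α : V1 →ₗ[F] V1, (∀ x y, f₁ (α x) (α y) = f₁ x y) ∧ α b = c := by
  obtain ⟨g, hg⟩ := Cfsg.Agent.Lib.Symplectic.exists_smul_eq_of_ne_zero
    (Cfsg.Agent.Lib.Subspaces.SympGen.toBilin_isSymp D.h1) hb hc
  exact ⟨((g : V1 ≃ₗ[F] V1) : V1 →ₗ[F] V1), fun x y => g.2 x y, hg⟩

/-- The torus of a hyperbolic pair. -/
theorem exists_torus {a b : V1} (hab : f₁ a b = 1) {s : F} (hs : s ≠ 0) :
    ∃ α : V1 →ₗ[F] V1, (∀ x y, f₁ (α x) (α y) = f₁ x y) ∧ α b = s • b ∧ α a = s⁻¹ • a ∧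
      ∀ x, f₁ x b = 0 → f₁ x a = 0 → α x = x := by
  have hba : f₁ b a = -1 := by rw [D.h1.skew b a, hab]
  let α : V1 →ₗ[F] V1 :=
    { toFun := fun x => x + ((s - 1) * f₁ a x) • b + ((s⁻¹ - 1) * f₁ x b) • a
      map_add' := fun x y => by simp only [D.addL₁, D.addR₁]; match_scalars <;> ring
      map_smul' := fun c x => by simp only [D.smulL₁, D.smulR₁, RingHom.id_apply]; match_scalars <;> ring }
  refine ⟨α, fun x y => ?_, ?_, ?_, fun x h1 h2 => ?_⟩
  · show f₁ (x + ((s - 1) * f₁ a x) • b + ((s⁻¹ - 1) * f₁ x b) • a)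
      (y + ((s - 1) * f₁ a y) • b + ((s⁻¹ - 1) * f₁ y b) • a) = _
    simp only [D.addL₁, D.addR₁, D.smulL₁, D.smulR₁, D.h1.alternating, hab, hba, D.h1.skew b y, D.h1.skew x a]
    field_simp
    ring
  · show b + ((s - 1) * f₁ a b) • b + ((s⁻¹ - 1) * f₁ b b) • a = _
    rw [hab, D.h1.alternating]; module
  · show a + ((s - 1) * f₁ a a) • b + ((s⁻¹ - 1) * f₁ a b) • a = _
    rw [hab, D.h1.alternating]; module
  · show x + ((s - 1) * f₁ a x) • b + ((s⁻¹ - 1) * f₁ x b) • a = _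
    rw [h1, D.h1.skew a x, h2]; simp

/-- The Eichler transformation `x ↦ x + (x, a) u + (x, u) a`. -/
theorem exists_eich {a u : V1} (hua : f₁ u a = 0) :
    ∃ α : V1 →ₗ[F] V1, (∀ x y, f₁ (α x) (α y) = f₁ x y) ∧ ∀ x, α x = x + f₁ x a • u + f₁ x u • a := by
  have hau : f₁ a u = 0 := by rw [D.h1.skew a u, hua, neg_zero]
  let α : V1 →ₗ[F] V1 :=
    { toFun := fun x => x + f₁ x a • u + f₁ x u • a
      map_add' := fun x y => by simp only [D.addL₁]; match_scalars <;> ring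
      map_smul' := fun c x => by simp only [D.smulL₁, RingHom.id_apply]; match_scalars <;> ring }
  refine ⟨α, fun x y => ?_, fun x => rfl⟩
  show f₁ (x + f₁ x a • u + f₁ x u • a) (y + f₁ y a • u + f₁ y u • a) = _
  simp only [D.addL₁, D.addR₁, D.smulL₁, D.smulR₁, D.h1.alternating, hua, hau, D.h1.skew u y, D.h1.skew a y]
  ring

/-- The transvection `x ↦ x + r (x, v) v`. -/
theorem exists_transvection (v : V1) (r : F) :
    ∃ α : V1 →ₗ[F] V1, (∀ x y, f₁ (α x) (α y) = f₁ x y) ∧ ∀ x, α x = x + (r * f₁ x v) • v := by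
  let α : V1 →ₗ[F] V1 :=
    { toFun := fun x => x + (r * f₁ x v) • v
      map_add' := fun x y => by simp only [D.addL₁]; match_scalars <;> ring
      map_smul' := fun c x => by simp only [D.smulL₁, RingHom.id_apply]; match_scalars <;> ring }
  refine ⟨α, fun x y => ?_, fun x => rfl⟩
  show f₁ (x + (r * f₁ x v) • v) (y + (r * f₁ y v) • v) = _
  simp only [D.addL₁, D.addR₁, D.smulL₁, D.smulR₁, D.h1.alternating, D.h1.skew v y]
  ring

/-- Conjugation by an isometry of the second factor. -/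
theorem inR_conj₂ {b : V1} {A o o' : V2 →ₗ[F] V2} (h : InR f₁ M b A) (ho : ∀ x y, f₂ (o x) (o y) = f₂ x y)
    (hoo : ∀ x, o' (o x) = x) : InR f₁ M b (o ∘ₗ A ∘ₗ o') := by
  obtain ⟨g, hg, -, hgT⟩ := D.exists_move LinearMap.id o (fun x y => rfl) ho
  exact D.inR_conj h hg (α := LinearMap.id) ho hoo hgT

theorem inR_sq {b : V1} {A : V2 →ₗ[F] V2} (h : InR f₁ M b A) (s : F) : InR f₁ M b ((s * s) • A) := by
  rcases eq_or_ne b 0 with rfl | hb
  · exact ⟨1, M.one_mem, fun z => by rw [Units.val_one, one_mulVec, tens_zero_left, add_zero]⟩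
  rcases eq_or_ne s 0 with rfl | hs
  · rw [mul_zero, zero_smul]
    exact ⟨1, M.one_mem, fun z => by
      rw [Units.val_one, one_mulVec, LinearMap.zero_apply, tens_zero_right, add_zero]⟩
  obtain ⟨a, ha⟩ := D.exists_partner hb
  obtain ⟨α, hα, hαb, -, -⟩ := exists_torus D ha hs
  obtain ⟨g, hg, -, hgT⟩ := D.exists_move α LinearMap.id hα fun x y => rfl
  obtain ⟨R, hR, hRz⟩ := D.inR_conj h hg (o := LinearMap.id) (o' := LinearMap.id) (fun x y => rfl)
    (fun x => rfl) hgT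
  refine ⟨R, hR, fun z => ?_⟩
  rw [hRz, hαb, D.phi_smulC]
  simp only [LinearMap.comp_apply, LinearMap.id_apply, LinearMap.smul_apply, map_smul, tens_smul_left,
    tens_smul_right, smul_smul]

/-- The root elements with a given centre form a space over the field. -/
theorem inR_smul {b : V1} {A : V2 →ₗ[F] V2} (h : InR f₁ M b A) (r : F) : InR f₁ M b (r • A) := by
  have h2 := D.sym.two
  have e : r • A = (((r + 1) / 2) * ((r + 1) / 2)) • A + -((((r - 1) / 2) * ((r - 1) / 2)) • A) := by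
    match_scalars
    field_simp
    ring
  rw [e]
  exact D.inR_add (inR_sq D h _) (D.inR_neg (inR_sq D h _))

end Cfsg.Agent.Lib.GeomSmallSp.OrthThree.Move
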