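import Cfsg.Agent.Lib.DicksonId.Transvections
import Mathlib.GroupTheory.Nilpotent

/-!
Subgroups of `SL(2, R)`, `R` an algebra over a finite field generated by one element `A`, containing the upper
unitriangular matrices over the field, the lower ones over the multiples of `A`, and no other upper ones.
-/

set_option autoImplicit false

namespace Cfsg.Agent.Lib.GeomSmallSp.OrthThree.SLTwo

open Matrix

section defs

variable {R : Type*} [CommRing R]

/-- `(1 z; 0 1)`. -/
def uu (z : R) : Matrix.SpecialLinearGroup (Fin 2) R := ⟨!![1, z; 0, 1], by simp [Matrix.det_fin_two_of]⟩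

/-- `(1 0; z 1)`. -/
def ll (z : R) : Matrix.SpecialLinearGroup (Fin 2) R := ⟨!![1, 0; z, 1], by simp [Matrix.det_fin_two_of]⟩

theorem coe_uu (z : R) : (uu z : Matrix (Fin 2) (Fin 2) R) = !![1, z; 0, 1] := rfl

theorem coe_ll (z : R) : (ll z : Matrix (Fin 2) (Fin 2) R) = !![1, 0; z, 1] := rfl

theorem uu_add (x y : R) : uu x * uu y = uu (x + y) := by
  apply Subtype.ext
  rw [Matrix.SpecialLinearGroup.coe_mul, coe_uu, coe_uu, coe_uu]
  ext i j
  fin_cases i <;> fin_cases j <;> simp [Matrix.mul_apply, Fin.sum_univ_two, add_comm]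

theorem ll_add (x y : R) : ll x * ll y = ll (x + y) := by
  apply Subtype.ext
  rw [Matrix.SpecialLinearGroup.coe_mul, coe_ll, coe_ll, coe_ll]
  ext i j
  fin_cases i <;> fin_cases j <;> simp [Matrix.mul_apply, Fin.sum_univ_two, add_comm]

theorem uu_zero : uu (0 : R) = 1 := Subtype.ext (by simp [coe_uu, Matrix.one_fin_two])

theorem ll_zero : ll (0 : R) = 1 := Subtype.ext (by simp [coe_ll, Matrix.one_fin_two])

theorem uu_pow (z : R) (k : ℕ) : uu z ^ k = uu ((k : R) * z) := by
  induction k with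
  | zero => rw [pow_zero, Nat.cast_zero, zero_mul, uu_zero]
  | succ k ih => rw [pow_succ, ih, uu_add, Nat.cast_succ, add_mul, one_mul]

theorem ll_pow (z : R) (k : ℕ) : ll z ^ k = ll ((k : R) * z) := by
  induction k with
  | zero => rw [pow_zero, Nat.cast_zero, zero_mul, ll_zero]
  | succ k ih => rw [pow_succ, ih, ll_add, Nat.cast_succ, add_mul, one_mul]

end defs

variable {F : Type*} [Field F] [Fintype F]

/-- The case of a character of `R` over the field. -/
theorem no_character {R : Type*} [CommRing R] [Finite R] [Algebra F R] (K : Subgroup (Matrix.SpecialLinearGroup (Fin 2) R))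
    (A : R) (hodd : (2 : F) ≠ 0) (hu : ∀ r : F, uu (algebraMap F R r) ∈ K) (hl : ∀ r : F, ll (r • A) ∈ K)
    (hup : ∀ Z, uu Z ∈ K → ∃ r : F, Z = algebraMap F R r) (hA : ∀ y, A * y = 0 → y = 0)
    (hAF : ∀ r : F, A ≠ algebraMap F R r) (χ : R →ₐ[F] F) (hχ : χ A ≠ 0) : False := by
  classical
  haveI : Nontrivial R := ⟨⟨1, 0, fun e => hχ (by rw [← mul_one A, e, mul_zero, map_zero])⟩⟩
  set p := ringChar F
  haveI : CharP F p := ringChar.charP F
  haveI hp : Fact p.Prime := ⟨CharP.char_is_prime F p⟩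
  have hp2 : p ≠ 2 := fun e => hodd (by simpa [e] using CharP.cast_eq_zero F p)
  have hinj : Function.Injective (algebraMap F R) := (algebraMap F R).injective
  set x : F := -4 / χ A
  set k : Matrix.SpecialLinearGroup (Fin 2) R := uu (algebraMap F R x) * ll ((1 : F) • A)
  have hk : k ∈ K := K.mul_mem (hu x) (hl 1)
  set m : Matrix.SpecialLinearGroup (Fin 2) F := Matrix.SpecialLinearGroup.map χ.toRingHom k
  have hm : (m : Matrix (Fin 2) (Fin 2) F) = !![-3, x; χ A, 1] := by
    rw [Matrix.SpecialLinearGroup.map_apply_coe, RingHom.mapMatrix_apply, Matrix.SpecialLinearGroup.coe_mul,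
      coe_uu, coe_ll]
    ext i j
    fin_cases i <;> fin_cases j <;> simp [Matrix.mul_apply, Fin.sum_univ_two, x]
    field_simp; ring
  have hpow : ∀ l : ℕ, ((m ^ l : Matrix.SpecialLinearGroup (Fin 2) F) : Matrix (Fin 2) (Fin 2) F) =
      (-1 : F) ^ l • !![1 + 2 * (l : F), -((l : F) * x); -((l : F) * χ A), 1 - 2 * (l : F)] := by
    have hx : x * χ A = -4 := by simp [x, hχ]
    intro l
    induction l with
    | zero => simp [Matrix.one_fin_two]
    | succ l ih =>
      rw [pow_succ, Matrix.SpecialLinearGroup.coe_mul, ih, hm]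
      ext i j
      fin_cases i <;> fin_cases j <;> simp [Matrix.mul_apply, Fin.sum_univ_two, pow_succ]
      · linear_combination (-(l : F) * (-1) ^ l) * hx
      · ring
      · ring
      · linear_combination (-(l : F) * (-1) ^ l) * hx
  set N₀ := orderOf k
  have hN₀ : (N₀ : F) = 0 := by
    have h1 : m ^ N₀ = 1 := by rw [← map_pow, pow_orderOf_eq_one, map_one]
    have h2 := congrFun (congrFun ((hpow N₀).symm.trans (congrArg Subtype.val h1)) 1) 0
    simp [hχ] at h2
    exact h2
  have hpN : p ∣ N₀ := (CharP.cast_eq_zero_iff F p N₀).1 hN₀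
  have hN0pos : 0 < N₀ := orderOf_pos k
  set z : K := (⟨k, hk⟩ : K) ^ (N₀ / p)
  have hz : orderOf z = p := by
    rw [orderOf_pow' _ (Nat.div_pos (Nat.le_of_dvd hN0pos hpN) hp.out.pos).ne', Subgroup.orderOf_mk,
      Nat.gcd_eq_right (Nat.div_dvd_of_dvd hpN), Nat.div_div_self hpN hN0pos.ne']
  -- the upper unitriangular part is a Sylow subgroup
  let uh : Multiplicative F →* K :=
    { toFun := fun r => ⟨uu (algebraMap F R r.toAdd), hu _⟩
      map_one' := Subtype.ext (by simp [uu_zero])
      map_mul' := fun a b => Subtype.ext (by simp [uu_add, map_add]) }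
  have hU : IsPGroup p uh.range := by
    rintro ⟨_, r, rfl⟩
    refine ⟨1, Subtype.ext (Subtype.ext ?_)⟩
    show (uu (algebraMap F R r.toAdd)) ^ (p ^ 1) = 1
    rw [pow_one, uu_pow, ← map_natCast (algebraMap F R), CharP.cast_eq_zero, map_zero, zero_mul, uu_zero]
  obtain ⟨S, hS⟩ := hU.exists_le_sylow
  have hSU : (S : Subgroup K) ≤ uh.range := by
    by_contra hlt
    haveI : Group.IsNilpotent S := S.2.isNilpotent
    have hne : uh.range.subgroupOf (S : Subgroup K) < ⊤ :=
      lt_top_iff_ne_top.2 fun e => hlt (Subgroup.subgroupOf_eq_top.1 e)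
    obtain ⟨⟨c, hcS⟩, hc, hcU⟩ := SetLike.exists_of_lt (normalizerCondition_of_isNilpotent _ hne)
    -- a normalising element is itself upper unitriangular
    have h1 : (⟨uu (algebraMap F R 1), hu 1⟩ : K) ∈ uh.range := ⟨Multiplicative.ofAdd 1, rfl⟩
    have h2 := (Subgroup.mem_normalizer_iff.1 hc ⟨⟨uu (algebraMap F R 1), hu 1⟩, hS h1⟩).1 h1
    obtain ⟨b, hb⟩ := h2
    set C : Matrix (Fin 2) (Fin 2) R := ((c : Matrix.SpecialLinearGroup (Fin 2) R) : Matrix (Fin 2) (Fin 2) R)
    have hcomm : C * !![1, 1; 0, 1] = !![1, algebraMap F R b.toAdd; 0, 1] * C := by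
      have e : uu (algebraMap F R b.toAdd) = (c : Matrix.SpecialLinearGroup (Fin 2) R) *
          uu (algebraMap F R 1) * (c : Matrix.SpecialLinearGroup (Fin 2) R)⁻¹ := congrArg Subtype.val hb
      rw [eq_mul_inv_iff_mul_eq] at e
      have e' := congrArg Subtype.val e
      simp only [Matrix.SpecialLinearGroup.coe_mul, coe_uu, map_one] at e'
      exact e'.symm
    set β := algebraMap F R b.toAdd
    have e11 := congrFun (congrFun hcomm 1) 1
    have e01 := congrFun (congrFun hcomm 0) 1
    simp [Matrix.mul_apply, Fin.sum_univ_two] at e11 e01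
    have h10 : C 1 0 = 0 := by linear_combination e11
    have had : C 0 0 * C 1 1 = 1 := by
      have := (c : Matrix.SpecialLinearGroup (Fin 2) R).2
      rw [Matrix.det_fin_two] at this
      change C 0 0 * C 1 1 - C 0 1 * C 1 0 = 1 at this
      rwa [h10, mul_zero, sub_zero] at this
    have hsq : C 0 0 * C 0 0 = β := by linear_combination C 0 0 * e01 + β * had
    have hcp : ∀ l : ℕ, (((c : Matrix.SpecialLinearGroup (Fin 2) R) ^ l : Matrix.SpecialLinearGroup (Fin 2) R) :
        Matrix (Fin 2) (Fin 2) R) 0 0 = C 0 0 ^ l := by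
      intro l
      induction l with
      | zero => simp
      | succ l ih =>
        rw [pow_succ, Matrix.SpecialLinearGroup.coe_mul, Matrix.mul_apply, Fin.sum_univ_two, ih,
          show ((c : Matrix.SpecialLinearGroup (Fin 2) R) : Matrix (Fin 2) (Fin 2) R) 1 0 = 0 from h10, mul_zero,
          add_zero, ← pow_succ]
    obtain ⟨j, hj⟩ := S.2 ⟨c, hcS⟩
    have hap : C 0 0 ^ (p ^ j) = 1 := by
      rw [← hcp, show (c : Matrix.SpecialLinearGroup (Fin 2) R) ^ (p ^ j) = 1 from
        congrArg (fun y : S => ((y : K) : Matrix.SpecialLinearGroup (Fin 2) R)) hj]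
      simp
    have hb1 : b.toAdd = 1 := by
      have e : b.toAdd ^ (p ^ j) = 1 := hinj (by
        rw [map_pow, map_one]
        show β ^ (p ^ j) = 1
        rw [← hsq, mul_pow, hap, one_mul])
      have e2 : (b.toAdd - 1) ^ (p ^ j) = 0 := by rw [sub_pow_char_pow, e, one_pow, sub_self]
      exact sub_eq_zero.1 (eq_zero_of_pow_eq_zero e2)
    have ha1 : C 0 0 = 1 := by
      obtain ⟨t, ht⟩ := (hp.out.odd_of_ne_two hp2).pow (n := j)
      rw [ht, pow_succ, pow_mul, pow_two, hsq, show β = 1 by rw [show β = algebraMap F R b.toAdd from rfl, hb1,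
        map_one], one_pow, one_mul] at hap
      exact hap
    have hd1 : C 1 1 = 1 := by rwa [ha1, one_mul] at had
    have hcu : (c : Matrix.SpecialLinearGroup (Fin 2) R) = uu (C 0 1) := by
      apply Subtype.ext
      ext i j
      fin_cases i <;> fin_cases j
      · exact ha1
      · rfl
      · exact h10
      · exact hd1
    obtain ⟨r, hr⟩ := hup (C 0 1) (hcu ▸ c.2)
    exact hcU ⟨Multiplicative.ofAdd r, Subtype.ext (by
      show uu (algebraMap F R r) = _
      rw [← hr, ← hcu]; rfl)⟩
  obtain ⟨Q, hQ⟩ := (IsPGroup.of_card (p := p) (n := 1) (by rw [Nat.card_zpowers, hz, pow_one]) :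
    IsPGroup p (Subgroup.zpowers z)).exists_le_sylow
  obtain ⟨c, hc⟩ := MulAction.exists_smul_eq K Q S
  obtain ⟨r, hr⟩ : c * z * c⁻¹ ∈ uh.range := hSU (by
    rw [← hc]
    exact Subgroup.smul_mem_pointwise_smul z (MulAut.conj c) _ (hQ (Subgroup.mem_zpowers z)))
  have hr0 : r.toAdd ≠ 0 := fun e => by
    have hz1 : z = 1 := by
      have e1 : c * z * c⁻¹ = 1 := by
        rw [← hr, show r = 1 from Multiplicative.toAdd.injective (by rw [e, toAdd_one]), map_one]
      exact conj_eq_one_iff.1 e1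
    rw [hz1, orderOf_one] at hz
    exact hp.out.ne_one hz.symm
  set kc : K := c * ⟨k, hk⟩ * c⁻¹
  have hcz : kc * (c * z * c⁻¹) = (c * z * c⁻¹) * kc := by
    have hzk : (⟨k, hk⟩ : K) * z = z * ⟨k, hk⟩ := (Commute.self_pow _ _).eq
    calc kc * (c * z * c⁻¹) = c * ((⟨k, hk⟩ : K) * z) * c⁻¹ := by simp only [kc]; group
      _ = _ := by rw [hzk]; simp only [kc]; group
  rw [← hr] at hcz
  set E : Matrix (Fin 2) (Fin 2) R := ((kc : Matrix.SpecialLinearGroup (Fin 2) R) : Matrix (Fin 2) (Fin 2) R)
  set t := algebraMap F R r.toAdd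
  have hE : E * !![1, t; 0, 1] = !![1, t; 0, 1] * E :=
    congrArg (fun y : K => ((y : Matrix.SpecialLinearGroup (Fin 2) R) : Matrix (Fin 2) (Fin 2) R)) hcz
  have htu : ∀ y, t * y = 0 → y = 0 := fun y hy => by
    have e := congrArg (algebraMap F R r.toAdd⁻¹ * ·) hy
    simpa only [t, ← mul_assoc, ← map_mul, inv_mul_cancel₀ hr0, map_one, one_mul, mul_zero] using e
  have e00 := congrFun (congrFun hE 0) 0
  have e01 := congrFun (congrFun hE 0) 1
  simp [Matrix.mul_apply, Fin.sum_univ_two] at e00 e01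
  have h10 : E 1 0 = 0 := htu _ (by linear_combination e00)
  have had : E 0 0 = E 1 1 := sub_eq_zero.1 (htu _ (by linear_combination e01))
  have hdet : E 0 0 * E 1 1 = 1 := by
    have := (kc : Matrix.SpecialLinearGroup (Fin 2) R).2
    rw [Matrix.det_fin_two] at this
    change E 0 0 * E 1 1 - E 0 1 * E 1 0 = 1 at this
    rwa [h10, mul_zero, sub_zero] at this
  have htr : E.trace = 2 + algebraMap F R x * A := by
    have e : E = ((c : Matrix.SpecialLinearGroup (Fin 2) R) : Matrix (Fin 2) (Fin 2) R) *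
        (k : Matrix (Fin 2) (Fin 2) R) *
        (((c : Matrix.SpecialLinearGroup (Fin 2) R)⁻¹ : Matrix.SpecialLinearGroup (Fin 2) R) :
          Matrix (Fin 2) (Fin 2) R) := rfl
    rw [e, Matrix.trace_mul_cycle, ← Matrix.SpecialLinearGroup.coe_mul, inv_mul_cancel,
      Matrix.SpecialLinearGroup.coe_one, Matrix.one_mul, Matrix.SpecialLinearGroup.coe_mul, coe_uu, coe_ll,
      one_smul, Matrix.trace_fin_two]
    simp [Matrix.mul_apply, Fin.sum_univ_two]
    ring
  rw [Matrix.trace_fin_two, ← had] at htr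
  rw [← had] at hdet
  set X := algebraMap F R x
  have hmul : A * (X * (4 + X * A)) = 0 := by
    linear_combination -(2 * E 0 0 + (2 + X * A)) * htr + 4 * hdet
  have hx0 : x ≠ 0 := div_ne_zero (neg_ne_zero.2 (by
    rw [show (4 : F) = 2 * 2 by norm_num]; exact mul_ne_zero hodd hodd)) hχ
  have e := congrArg (algebraMap F R x⁻¹ * ·) (hA _ hmul)
  simp only [X, ← mul_assoc, ← map_mul, inv_mul_cancel₀ hx0, map_one, one_mul, mul_zero] at e
  refine hAF (-4 / x) ?_
  have e' : X * A = algebraMap F R (-4) := by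
    rw [map_neg, map_ofNat]; linear_combination e
  have := congrArg (algebraMap F R x⁻¹ * ·) e'
  simp only [X, ← mul_assoc, ← map_mul, inv_mul_cancel₀ hx0, map_one, one_mul] at this
  rw [this]
  congr 1
  rw [div_eq_inv_mul]

open Cfsg.Agent.Lib.DicksonFull (pslExt slExt) in
open Cfsg.Agent.Lib.DicksonId Cfsg.Agent.Lib.Linear in
/-- The case of a field. -/
theorem no_field {L : Type*} [Field L] [Fintype L] [Algebra F L] (K : Subgroup (Matrix.SpecialLinearGroup (Fin 2) L))
    (A : L) (hodd : (2 : F) ≠ 0) (hq : 5 ≤ Fintype.card F) (hu : ∀ r : F, uu (algebraMap F L r) ∈ K)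
    (hl : ∀ r : F, ll (r • A) ∈ K) (hup : ∀ Z, uu Z ∈ K → ∃ r : F, Z = algebraMap F L r)
    (hAF : ∀ r : F, A ≠ algebraMap F L r)
    (hgen : ∀ S : Subfield L, A ∈ S → (∀ r : F, algebraMap F L r ∈ S) → S = ⊤) : False := by
  classical
  set p := ringChar F
  haveI : CharP F p := ringChar.charP F
  haveI hp : Fact p.Prime := ⟨CharP.char_is_prime F p⟩
  haveI : CharP L p := charP_of_injective_algebraMap (algebraMap F L).injective p
  have hp2 : p ≠ 2 := fun e => hodd (by simpa [e] using CharP.cast_eq_zero F p)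
  have hA0 : A ≠ 0 := fun e => hAF 0 (by rw [e, map_zero])
  set mk : Matrix.SpecialLinearGroup (Fin 2) L →* Matrix.ProjectiveSpecialLinearGroup (Fin 2) L :=
    QuotientGroup.mk' _
  set G := K.map mk
  have hup' : ∀ z : L, mk (uu z) ^ p = 1 := fun z => by
    rw [← map_pow, uu_pow, CharP.cast_eq_zero, zero_mul, uu_zero, map_one]
  have hlo' : ∀ z : L, mk (ll z) ^ p = 1 := fun z => by
    rw [← map_pow, ll_pow, CharP.cast_eq_zero, zero_mul, ll_zero, map_one]
  have hu' : ∀ r, mk (uu (algebraMap F L r)) ∈ G := fun r => Subgroup.mem_map_of_mem _ (hu r)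
  have hl' : ∀ r : F, mk (ll (r • A)) ∈ G := fun r => Subgroup.mem_map_of_mem _ (hl r)
  have hnc : ¬ Commute (mk (uu (algebraMap F L 1))) (mk (ll ((1 : F) • A))) := by
    intro h
    have h' : mk (uu (algebraMap F L 1) * ll ((1 : F) • A)) = mk (ll ((1 : F) • A) * uu (algebraMap F L 1)) := by
      rw [map_mul, map_mul]; exact h.eq
    obtain ⟨c, hc⟩ := (AutPSL.mk_eq_mk_iff _ _).mp h'
    rw [Matrix.SpecialLinearGroup.coe_mul, Matrix.SpecialLinearGroup.coe_mul, coe_uu, coe_ll, map_one,
      one_smul] at hc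
    have e01 := congrFun (congrFun hc 0) 1
    have e00 := congrFun (congrFun hc 0) 0
    simp [Matrix.mul_apply, Fin.sum_univ_two] at e01 e00
    rw [← e01] at e00
    simp at e00
    exact hA0 e00
  have hker : ∀ z : L, mk (uu z) = 1 → z = 0 := by
    intro z hz
    obtain ⟨c, hc⟩ := (AutPSL.mk_eq_mk_iff _ _).mp (hz.trans (map_one mk).symm)
    have e01 := congrFun (congrFun hc 0) 1
    have e00 := congrFun (congrFun hc 0) 0
    simp [coe_uu] at e00 e01
    subst e00
    simpa using e01
  have hpG : p ∣ Nat.card G := by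
    have h1 := Subgroup.orderOf_dvd_natCard G (hu' 1)
    rwa [orderOf_eq_prime (hup' _) fun e => one_ne_zero ((algebraMap F L).injective
      ((hker _ e).trans (map_zero _).symm))] at h1
  have hcardL : 5 ≤ Fintype.card L :=
    hq.trans (Fintype.card_le_of_injective _ (algebraMap F L).injective)
  suffices htop : G = ⊤ by
    obtain ⟨k, hk, hkz⟩ : mk (uu A) ∈ G := by rw [htop]; trivial
    obtain ⟨c, hc⟩ := (AutPSL.mk_eq_mk_iff _ _).mp hkz
    have hd := congrArg Matrix.det hc
    rw [Matrix.det_smul, k.2, (uu A).2, Fintype.card_fin, mul_one] at hd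
    have hkk : k * k = uu (A + A) := by
      rw [← uu_add]
      apply Subtype.ext
      rw [Matrix.SpecialLinearGroup.coe_mul, Matrix.SpecialLinearGroup.coe_mul, hc, Matrix.smul_mul,
        Matrix.mul_smul, smul_smul, show c * c = 1 from (pow_two c).symm.trans hd.symm, one_smul]
    obtain ⟨r, hr⟩ := hup _ (hkk ▸ K.mul_mem hk hk)
    refine hAF (r / 2) ?_
    have h2 : (2 : L) ≠ 0 := by
      rw [← map_ofNat (algebraMap F L) 2]
      exact fun e => hodd ((algebraMap F L).injective (e.trans (map_zero _).symm))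
    rw [map_div₀, map_ofNat, eq_div_iff h2, mul_two, hr]
  rcases classify (p := p) G with ⟨-, h⟩ | ⟨j, hj, -, ⟨d⟩⟩ | ⟨P, hP⟩ | ⟨h, -⟩ | ⟨h, -⟩ | ⟨h, ⟨hd⟩⟩ |
      ⟨k, hk, hk3, -, g, φ, hφ⟩
  · exact absurd hpG h
  · rw [Nat.card_congr d.toEquiv, DihedralGroup.nat_card] at hpG
    exact absurd (((Nat.coprime_primes hp.out Nat.prime_two).mpr hp2).dvd_of_dvd_mul_left hpG) hj
  · exact absurd ((borel_props hp2 hcardL P).1 _ _ (hP (hu' 1)) (hP (hl' 1)) (hup' _) (hlo' _)) hnc
  · exact absurd hpG h
  · exact absurd hpG h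
  · -- the icosahedral group has no subgroup of order `q`
    exfalso
    have hp3 : p = 3 := h.resolve_left fun h => h hpG
    let f : Multiplicative F →* G :=
      { toFun := fun r => ⟨mk (uu (algebraMap F L r.toAdd)), hu' _⟩
        map_one' := Subtype.ext (by simp [uu_zero])
        map_mul' := fun a b => Subtype.ext (by simp [← map_mul, uu_add, map_add]) }
    have hf : Function.Injective f := by
      rw [injective_iff_map_eq_one]
      intro r hr
      have := hker _ (congrArg Subtype.val hr :)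
      exact Multiplicative.toAdd.injective ((algebraMap F L).injective (this.trans (map_zero _).symm))
    have hdvd := Subgroup.card_dvd_of_injective f hf
    have hA5 : Nat.card G = 60 := by
      rw [Nat.card_congr hd.toEquiv, Nat.card_eq_fintype_card]
      decide
    rw [hA5, Nat.card_eq_fintype_card, show Fintype.card (Multiplicative F) = Fintype.card F from
      Fintype.card_congr Multiplicative.toAdd] at hdvd
    obtain ⟨e, he, hcard⟩ := exists_card_eq_pow (F := F) p
    rw [hcard, hp3] at hdvd hq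
    rcases (show e = 1 ∨ 2 ≤ e by omega) with rfl | he2
    · omega
    · have := (Nat.pow_dvd_pow 3 he2).trans hdvd
      norm_num at this
  letI : Fintype (GaloisField p k) := Fintype.ofFinite _
  have hle : ∀ y ∈ G, y ^ p = 1 → AutPSL.conjAut g y ∈ (pslExt φ).range := by
    intro y hy hyp
    rcases hφ with e | ⟨-, -, ψ, hψ, e⟩
    · exact e.le (Subgroup.mem_map_of_mem _ hy)
    · refine mem_pslExt_of_pow hp2 hψ (e ▸ Subgroup.mem_map_of_mem _ hy) ?_ (index_imSL (p := p) hp2)
      rw [← map_pow, hyp, map_one]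
  have hrA : ∀ r : F, algebraMap F L r * A ∈ φ.fieldRange := by
    intro r
    have hm : mk (AutPSL.conjSL g (uu (algebraMap F L 1) * ll (r • A))) ∈ (pslExt φ).range := by
      have e : mk (AutPSL.conjSL g (uu (algebraMap F L 1) * ll (r • A))) =
          AutPSL.conjAut g (mk (uu (algebraMap F L 1))) * AutPSL.conjAut g (mk (ll (r • A))) := by
        rw [← map_mul, ← map_mul]; exact (AutPSL.conjAut_mk g _).symm
      rw [e]
      exact mul_mem (hle _ (hu' 1) (hup' _)) (hle _ (hl' r) (hlo' _))
    obtain ⟨w, hw⟩ := hm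
    obtain ⟨W, rfl⟩ := QuotientGroup.mk_surjective w
    rw [DicksonFull.pslExt_mk] at hw
    obtain ⟨s, hs⟩ := (AutPSL.mk_eq_mk_iff _ _).mp hw
    have htr : Matrix.trace ((AutPSL.conjSL g (uu (algebraMap F L 1) * ll (r • A)) :
        Matrix.SpecialLinearGroup (Fin 2) L) : Matrix (Fin 2) (Fin 2) L) = 2 + algebraMap F L r * A := by
      rw [AutPSL.coe_conjSL, Matrix.trace_mul_comm, ← Matrix.mul_assoc, Units.inv_mul, Matrix.one_mul,
        Matrix.SpecialLinearGroup.coe_mul, Matrix.trace_fin_two, coe_uu, coe_ll, Algebra.smul_def]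
      simp [Matrix.mul_apply, Fin.sum_univ_two]
      ring
    have hd := congrArg Matrix.det hs
    rw [Matrix.det_smul, (AutPSL.conjSL g (uu (algebraMap F L 1) * ll (r • A))).2, (slExt φ W).2, Fintype.card_fin,
      mul_one] at hd
    have hT : Matrix.trace ((slExt φ W : Matrix.SpecialLinearGroup (Fin 2) L) : Matrix (Fin 2) (Fin 2) L) ∈
        φ.fieldRange := by
      rw [Matrix.trace_fin_two, DicksonFull.slExt_apply, DicksonFull.slExt_apply, ← map_add]
      exact ⟨_, rfl⟩
    rw [hs, Matrix.trace_smul, smul_eq_mul] at htr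
    rw [show algebraMap F L r * A = s * Matrix.trace ((slExt φ W : Matrix.SpecialLinearGroup (Fin 2) L) :
      Matrix (Fin 2) (Fin 2) L) - 2 by linear_combination (-1) * htr]
    refine sub_mem (mul_mem ?_ hT) (ofNat_mem _ 2)
    rcases sq_eq_one_iff.mp hd.symm with rfl | rfl
    · exact one_mem _
    · exact neg_mem (one_mem _)
  have hsurj : Function.Surjective φ := by
    have hA : A ∈ φ.fieldRange := by simpa using hrA 1
    have := hgen φ.fieldRange hA fun r => by
      have := div_mem (hrA r) hA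
      rwa [mul_div_cancel_right₀ _ hA0] at this
    exact fun y => (this ▸ Subfield.mem_top y : y ∈ φ.fieldRange)
  rcases hφ with e | ⟨-, hsq, -⟩
  · apply Subgroup.eq_top_of_card_eq
    have hcardF : Fintype.card L = p ^ k := by
      rw [← card_galois (p := p) hk]
      exact (Fintype.card_of_bijective ⟨φ.injective, hsurj⟩).symm
    have h1 := two_mul_card_PSL (F := L) hp2
    rw [hcardF] at h1
    have h3 := two_mul_card_range hp2 hk φ
    rw [← e, card_conjG] at h3
    omega
  · exfalso
    obtain ⟨y, hy⟩ := FiniteField.exists_nonsquare (F := L) (by rwa [ringChar.eq L p])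
    obtain ⟨a, rfl⟩ := hsurj y
    exact hy (hsq a)

end Cfsg.Agent.Lib.GeomSmallSp.OrthThree.SLTwo
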