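import Cfsg.Agent.Lib.GeomSmallSp.OrthThree.Block
import Cfsg.Agent.Lib.GeomSmallSp.OrthThree.SLTwo
import Mathlib.Algebra.Polynomial.SpecificDegree
import Mathlib.LinearAlgebra.Charpoly.Basic
import Mathlib.LinearAlgebra.Eigenspace.Minpoly

/-!
No image of a block under an element outside the stabiliser is carried bijectively by a contraction.
-/

set_option autoImplicit false

namespace Cfsg.Agent.Lib.GeomSmallSp.OrthThree.Pair

open Matrix Kronecker
open Cfsg.Agent.Lib.Subspaces.Transvection Cfsg.Agent.Lib.Subspaces.FormVec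
  Cfsg.Agent.Lib.TensorMax.Lemmas Cfsg.Agent.Lib.TensorFormMax.Basic
  Cfsg.Agent.Lib.TensorOrthMax.Side Cfsg.Agent.Lib.GeomSmallSp.OrthThree.Basic
  Cfsg.Agent.Lib.GeomSmallSp.OrthThree.Side Cfsg.Agent.Lib.GeomSmallSp.OrthThree.Move
  Cfsg.Agent.Lib.GeomSmallSp.OrthThree.Root Cfsg.Agent.Lib.GeomSmallSp.OrthThree.Quad
  Cfsg.Agent.Lib.GeomSmallSp.OrthThree.Block Cfsg.Agent.Lib.GeomSmallSp.OrthThree.SLTwo

variable {F : Type*} [Field F] {n : ℕ}

local notation "V1" => Fin n → F
local notation "V2" => Fin 3 → F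
local notation "Vec" => Fin n × Fin 3 → F
local notation "Big" => Matrix (Fin n × Fin 3) (Fin n × Fin 3) F
local notation "G" => GL (Fin n × Fin 3) F

variable {f₁ : (Fin n → F) → (Fin n → F) → F} {f₂ : (Fin 3 → F) → (Fin 3 → F) → F}
  {B : (Fin n × Fin 3 → F) → (Fin n × Fin 3 → F) → F} {M : Subgroup (GL (Fin n × Fin 3) F)}
  (D : Data f₁ f₂ B M)
include D

/-- The contraction of the image of a block. -/
def cT (g : GL (Fin n × Fin 3) F) (a b : Fin n → F) : (Fin 3 → F) →ₗ[F] (Fin 3 → F) :=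
  D.phiL b ∘ₗ (g : Big).mulVecLin ∘ₗ tensL a

theorem cT_apply (g : G) (a b : V1) (w : V2) : cT D g a b w = phi f₁ b ((g : Big) *ᵥ tens a w) := rfl

theorem good_false [Fintype F] (hq : 5 ≤ Fintype.card F) (hS : AllScalar M f₁) {g : G} (hg : g ∈ M)
    (hgk : g ∉ Cfsg.Geo.kroneckerSubgroup n 3 F) {a b : V1} (ha : a ≠ 0) (hb : b ≠ 0)
    (hT : Function.Injective (cT D g a b)) : False := by
  classical
  have hf := D.sym
  obtain ⟨a₀, ha₀⟩ := D.exists_partner ha
  obtain ⟨b₀, hb₀⟩ := D.exists_partner hb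
  set T := cT D g a b
  let Te := LinearEquiv.ofInjectiveEndo T hT
  let j : V2 →ₗ[F] Vec := (g : Big).mulVecLin ∘ₗ tensL a ∘ₗ Te.symm.toLinearMap
  have hjb : ∀ y, phi f₁ b (j y) = y := fun y => Te.apply_symm_apply y
  let Ψ : Vec →ₗ[F] V2 := T ∘ₗ D.phiL a ∘ₗ ((g⁻¹ : G) : Big).mulVecLin
  have hΨ : ∀ z, Ψ z = T (phi f₁ a (((g⁻¹ : G) : Big) *ᵥ z)) := fun z => rfl
  have hjT : ∀ w, j (T w) = (g : Big) *ᵥ tens a w := fun w => by
    show (g : Big) *ᵥ tens a (Te.symm (Te w)) = _
    rw [Te.symm_apply_apply]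
  have hΨj : ∀ y, Ψ (j y) = 0 := fun y => by
    show T (phi f₁ a (((g⁻¹ : G) : Big) *ᵥ ((g : Big) *ᵥ tens a (Te.symm y)))) = 0
    rw [gl_inv_mulVec, D.phi_self, map_zero]
  let A : V2 →ₗ[F] V2 := Ψ ∘ₗ tensL b
  have hA : ∀ w, A w = Ψ (tens b w) := fun w => rfl
  have hAinj : Function.Injective A := by
    rw [injective_iff_map_eq_zero]
    intro w hw
    have hm : phi f₁ a (((g⁻¹ : G) : Big) *ᵥ tens b w) = 0 := hT (hw.trans (map_zero T).symm)
    refine hf.eq_zero fun u => ?_
    obtain ⟨x, rfl⟩ := LinearMap.surjective_of_injective hT u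
    rw [cT_apply, ← D.B_tens_right, D.isometry_inv hg, D.Bswap, D.B_tens_right, hm, hf.zeroL, neg_zero]
  have hAe := LinearMap.surjective_of_injective hAinj
  let Ae := LinearEquiv.ofInjectiveEndo A hAinj
  -- coordinates
  let Θ : V2 → V2 → Vec := fun x y => tens b x + j y
  have hphiΘ : ∀ x y, phi f₁ b (Θ x y) = y := fun x y => by rw [D.phi_add, D.phi_self, hjb, zero_add]
  have hΨΘ : ∀ x y, Ψ (Θ x y) = A x := fun x y => by rw [map_add, hΨj, add_zero, hA]
  have hdec : ∀ z, ∃ x y r, z = Θ x y + r ∧ phi f₁ b r = 0 ∧ Ψ r = 0 ∧ y = phi f₁ b z ∧ A x = Ψ z := by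
    intro z
    refine ⟨Ae.symm (Ψ z), phi f₁ b z, z - Θ (Ae.symm (Ψ z)) (phi f₁ b z), by abel, ?_, ?_, rfl,
      Ae.apply_symm_apply _⟩
    · rw [D.phi_sub, hphiΘ, sub_self]
    · rw [map_sub, hΨΘ, show A (Ae.symm (Ψ z)) = Ψ z from Ae.apply_symm_apply _, sub_self]
  -- the algebra generated by `A`
  set P := minpoly F A
  have hint : IsIntegral F A := IsIntegral.of_finite F A
  let ι₀ : AdjoinRoot P →+* Module.End F V2 := Ideal.Quotient.lift (Ideal.span {P})
    (Polynomial.aeval (R := F) A).toRingHom fun q hq => by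
      obtain ⟨c, rfl⟩ := Ideal.mem_span_singleton'.1 hq
      show Polynomial.aeval A (c * P) = 0
      rw [map_mul, minpoly.aeval, mul_zero]
  let ι : AdjoinRoot P →ₐ[F] Module.End F V2 :=
    { ι₀ with
      commutes' := fun r => by
        show ι₀ (algebraMap F (AdjoinRoot P) r) = _
        rw [AdjoinRoot.algebraMap_eq, ← AdjoinRoot.mk_C]
        show Polynomial.aeval A (Polynomial.C r) = _
        rw [Polynomial.aeval_C] }
  have hιmk : ∀ q, ι (AdjoinRoot.mk P q) = Polynomial.aeval A q := fun q => rfl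
  set α := AdjoinRoot.root P
  have hιr : ∀ (r : F) y, ι (AdjoinRoot.of P r) y = r • y := fun r y => by
    rw [← AdjoinRoot.algebraMap_eq, AlgHom.commutes, Module.algebraMap_end_apply]
  have hια : ι α = A := (hιmk Polynomial.X).trans (Polynomial.aeval_X A)
  have hιinj : Function.Injective ι := by
    rw [injective_iff_map_eq_zero]
    intro x
    refine AdjoinRoot.induction_on P x fun q hq => ?_
    rw [hιmk] at hq
    exact AdjoinRoot.mk_eq_zero.2 (minpoly.dvd F A hq)
  haveI : Finite (Module.End F V2) :=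
    Finite.of_injective (fun T : Module.End F V2 => (T : V2 → V2)) DFunLike.coe_injective
  haveI : Finite (AdjoinRoot P) := Finite.of_injective ι hιinj
  -- the subgroup of `SL₂` realised on the pair
  let act : Matrix.SpecialLinearGroup (Fin 2) (AdjoinRoot P) → V2 → V2 → Vec := fun k x y =>
    Θ (ι (k.1 0 0) x + ι (k.1 0 1) y) (ι (k.1 1 0) x + ι (k.1 1 1) y)
  let Good : Matrix.SpecialLinearGroup (Fin 2) (AdjoinRoot P) → G → Prop := fun k h =>
    h ∈ M ∧ (∀ x y, (h : Big) *ᵥ Θ x y = act k x y) ∧ ∀ r, phi f₁ b r = 0 → Ψ r = 0 → (h : Big) *ᵥ r = r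
  have hmul : ∀ {k k' h h'}, Good k h → Good k' h' → Good (k * k') (h * h') := by
    intro k k' h h' ⟨h1, h2, h3⟩ ⟨h1', h2', h3'⟩
    refine ⟨M.mul_mem h1 h1', fun x y => ?_, fun r r1 r2 => by rw [gl_mul_mulVec, h3' r r1 r2, h3 r r1 r2]⟩
    rw [gl_mul_mulVec, h2']
    show (h : Big) *ᵥ Θ _ _ = _
    rw [h2]
    simp only [act, Θ, Matrix.SpecialLinearGroup.coe_mul, Matrix.mul_apply, Fin.sum_univ_two, map_add, map_mul,
      LinearMap.add_apply, Module.End.mul_apply, tens_add_right]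
    abel
  let K₀ : Submonoid (Matrix.SpecialLinearGroup (Fin 2) (AdjoinRoot P)) :=
    { carrier := {k | ∃ h, Good k h}
      one_mem' := ⟨1, M.one_mem, fun x y => by simp [act, Θ], fun r _ _ => by simp⟩
      mul_mem' := fun ⟨h, hh⟩ ⟨h', hh'⟩ => ⟨h * h', hmul hh hh'⟩ }
  let K : Subgroup (Matrix.SpecialLinearGroup (Fin 2) (AdjoinRoot P)) :=
    { K₀ with
      inv_mem' := fun {k} hk => by
        obtain ⟨l, hl, hle⟩ : ∃ l, 0 < l ∧ k ^ l = 1 := ⟨orderOf k, orderOf_pos k, pow_orderOf_eq_one k⟩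
        have : k⁻¹ = k ^ (l - 1) := by
          refine inv_eq_of_mul_eq_one_right ?_
          rw [← pow_succ', Nat.sub_add_cancel hl, hle]
        show k⁻¹ ∈ K₀
        rw [this]
        exact pow_mem hk _ }
  have hu : ∀ r : F, uu (algebraMap F _ r) ∈ K := by
    intro r
    obtain ⟨R, hR, -, hRz⟩ := D.exists_root b r
    refine ⟨R, hR, fun x y => ?_, fun z h1 _ => by rw [hRz, h1, smul_zero, tens_zero_right, add_zero]⟩
    rw [hRz, hphiΘ]
    simp [act, Θ, coe_uu, hιr, tens_add_right]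
    abel
  have hl : ∀ r : F, ll (r • α) ∈ K := by
    intro r
    obtain ⟨R, hR, -, hRz⟩ := D.exists_root a r
    have hSz : ∀ z, ((g * R * g⁻¹ : G) : Big) *ᵥ z = z + r • j (Ψ z) := fun z => by
      rw [gl_mul_mulVec, gl_mul_mulVec, hRz, mulVec_add, gl_mulVec_inv, hΨ, hjT, tens_smul_right, mulVec_smul]
    refine ⟨g * R * g⁻¹, M.mul_mem (M.mul_mem hg hR) (M.inv_mem hg), fun x y => ?_, fun z _ h2 => by
      rw [hSz, h2, map_zero, smul_zero, add_zero]⟩
    rw [hSz, hΨΘ]
    simp [act, Θ, coe_ll, hια]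
    abel
  have hup : ∀ Z, uu Z ∈ K → ∃ r : F, Z = algebraMap F _ r := by
    rintro Z ⟨h, hh, h2, h3⟩
    have hR : InR f₁ M b (ι Z) := by
      refine ⟨h, hh, fun z => ?_⟩
      obtain ⟨x, y, r, hz, hr1, hr2, hy, -⟩ := hdec z
      rw [← hy, hz, mulVec_add, h2, h3 r hr1 hr2]
      simp [act, Θ, coe_uu, tens_add_right]
      abel
    obtain ⟨c, hc⟩ := hS b _ hb hR
    refine ⟨c, hιinj ?_⟩
    rw [hc, AlgHom.commutes, Module.algebraMap_end_eq_smul_id]
  by_cases hscal : ∃ l : F, A = l • LinearMap.id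
  · -- a torus
    obtain ⟨l, hl'⟩ := hscal
    have hl0 : l ≠ 0 := by
      intro e
      obtain ⟨w, e₁, w', hh⟩ := exists_hyp hf
      exact hh.w_ne hf (hAinj (show A w = A 0 by rw [map_zero, hl', e]; simp))
    have hαl : α = algebraMap F _ l := hιinj (by rw [hια, AlgHom.commutes, hl', Module.algebraMap_end_eq_smul_id])
    have hll : ∀ r : F, ll (algebraMap F _ r) ∈ K := fun r => by
      have := hl (r / l)
      rwa [hαl, Algebra.smul_def, ← map_mul, div_mul_cancel₀ _ hl0] at this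
    obtain ⟨s, hs⟩ := exists_avoid hq {0, 1, -1} (Finset.card_le_three.trans (by norm_num))
    simp only [Finset.mem_insert, Finset.mem_singleton, not_or] at hs
    obtain ⟨hs0, hs1, hs2⟩ := hs
    have hss : s - s⁻¹ ≠ 0 := fun e => by
      have : (s - 1) * (s + 1) = 0 := by
        field_simp at e
        linear_combination e
      rcases mul_eq_zero.1 this with e1 | e1
      · exact hs1 (sub_eq_zero.1 e1)
      · exact hs2 (eq_neg_of_add_eq_zero_left e1)
    let φ := algebraMap F (AdjoinRoot P)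
    have hw : ∀ t : F, uu (φ t) * ll (φ (-t⁻¹)) * uu (φ t) ∈ K := fun t =>
      K.mul_mem (K.mul_mem (hu t) (hll _)) (hu t)
    have hwm : ∀ t : F, t ≠ 0 → (uu (φ t) * ll (φ (-t⁻¹)) * uu (φ t)).1 = !![0, φ t; φ (-t⁻¹), 0] := by
      intro t ht
      have e : φ t * φ t⁻¹ = 1 := by rw [← map_mul, mul_inv_cancel₀ ht, map_one]
      simp only [Matrix.SpecialLinearGroup.coe_mul, coe_uu, coe_ll]
      ext i k
      fin_cases i <;> fin_cases k <;> simp [Matrix.mul_apply, Fin.sum_univ_two, map_neg] <;>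
        first | (linear_combination -e) | (linear_combination (-φ t) * e) | ring
    obtain ⟨h, hh, h2, h3⟩ := K.mul_mem (hw s) (hw (-1))
    have hact : ∀ x y, (h : Big) *ᵥ Θ x y = Θ (s • x) (s⁻¹ • y) := fun x y => by
      have hm : (uu (φ s) * ll (φ (-s⁻¹)) * uu (φ s) * (uu (φ (-1)) * ll (φ (-(-1 : F)⁻¹)) * uu (φ (-1)))).1 =
          !![φ s, 0; 0, φ s⁻¹] := by
        rw [Matrix.SpecialLinearGroup.coe_mul, hwm s hs0, hwm (-1) (by simp)]
        ext i k
        fin_cases i <;> fin_cases k <;> simp [Matrix.mul_apply, Fin.sum_univ_two, map_neg]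
      rw [h2]
      simp only [act, hm]
      simp [φ, hιr]
    obtain ⟨t, ht, htb, -, htfix⟩ := Move.exists_torus D hb₀ hs0
    obtain ⟨gt, hgt, hgtk, hgtT⟩ := D.exists_move t LinearMap.id ht fun x y => rfl
    have htb' : ∀ w, (gt : Big) *ᵥ tens b w = tens b (s • w) := fun w => by
      rw [hgtT, htb, LinearMap.id_apply, tens_smul_left, tens_smul_right]
    have hb' : ∀ w, (h : Big) *ᵥ tens b w = tens b (s • w) := fun w => by
      rw [show tens b w = Θ w 0 by simp [Θ], hact]; simp [Θ]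
    have hk : IsQuad f₁ M b (gt⁻¹ * h) := by
      refine ⟨M.mul_mem (M.inv_mem hgt) hh, fun w => ?_, fun u w hu => ?_⟩
      · rw [gl_mul_mulVec, hb', ← htb', gl_inv_mulVec]
      obtain ⟨x, y, r, hz, hr1, hr2, hy, -⟩ := hdec (tens u w)
      rw [D.phi_tens, hu, zero_smul] at hy
      subst hy
      have hxr : r = tens u w - tens b x := by rw [hz]; simp [Θ]
      have htu : (gt : Big) *ᵥ tens u w = tens u w + tens b (((s - 1) * f₁ b₀ u) • w) := by
        rw [hgtT, LinearMap.id_apply]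
        have e : t u = u + ((s - 1) * f₁ b₀ u) • b := by
          have hfix : t (proj f₁ b b₀ u) = proj f₁ b b₀ u :=
            htfix _ (proj_left D hb₀ u) (proj_left₀ D hb₀ u)
          conv_lhs => rw [decomp_perp D hb₀ hu, map_add, map_smul, hfix, htb]
          conv_rhs => arg 1; rw [decomp_perp D hb₀ hu]
          rw [D.h1.skew b₀ u]
          module
        rw [e, tens_add_left, tens_smul_left, tens_smul_right]
      refine ⟨s⁻¹ • ((s - 1) • x - ((s - 1) * f₁ b₀ u) • w), gl_mulVec_injective gt ?_⟩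
      show (gt : Big) *ᵥ _ = (gt : Big) *ᵥ _
      rw [gl_mul_mulVec, gl_mulVec_inv, mulVec_add, htu, htb', smul_smul, mul_inv_cancel₀ hs0, one_smul, hz,
        mulVec_add, hact, h3 r hr1 hr2, smul_zero]
      simp only [Θ, tens_smul_right, map_zero, add_zero, tens_sub_right', hxr]
      module
    have hhk : h ∈ Cfsg.Geo.kroneckerSubgroup n 3 F := by
      rw [show h = gt * (gt⁻¹ * h) by group]
      exact mul_mem hgtk (mem_kron D hb₀ hS hk)
    obtain ⟨α', hα'⟩ := kron_of_fix D hhk hb (c := s • b) fun w => by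
      rw [hb', tens_smul_left, tens_smul_right]
    set z := (g : Big) *ᵥ tens a (Pi.single 0 1) with hzdef
    have hz : (h : Big) *ᵥ z = s⁻¹ • z := by
      rw [hzdef, ← hjT, show j (T (Pi.single 0 1)) = Θ 0 (T (Pi.single 0 1)) by simp [Θ, tens_zero_right], hact]
      simp [Θ, tens_zero_right]
    obtain ⟨c, hc⟩ : ∃ c, col z c ≠ 0 := by
      by_contra hc
      push Not at hc
      refine tens_ne_zero ha (by simp : (Pi.single 0 1 : V2) ≠ 0) (gl_mulVec_injective g ?_)
      show (g : Big) *ᵥ _ = (g : Big) *ᵥ 0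
      rw [mulVec_zero, ← hzdef]
      exact funext fun p => congrFun (hc p.2) p.1
    have hcz : α' (col z c) = s⁻¹ • col z c := by
      have e : ∑ d, tens (α' (col z d)) (Pi.single d 1) = s⁻¹ • z := by
        rw [← hz]; conv_rhs => rw [← sum_tens_col z, mulVec_sum]
        exact Finset.sum_congr rfl fun d _ => (hα' _ _).symm
      funext i
      have e' := congrFun e (i, c)
      show α' (Basic.col z c) i = s⁻¹ * z (i, c)
      simpa [Finset.sum_apply, tens, Pi.single_apply] using e'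
    refine not_block D hS hg hgk ha hc fun w => ?_
    obtain ⟨x, y, r, hzu, hr1, hr2, -, -⟩ := hdec (tens (col z c) w)
    have he : (h : Big) *ᵥ tens (col z c) w = s⁻¹ • tens (col z c) w := by rw [hα', hcz, tens_smul_left]
    rw [hzu, mulVec_add, hact, h3 r hr1 hr2] at he
    have e1 := congrArg Ψ he
    simp only [Θ, map_add, map_smul, ← hA, hΨj, hr2, add_zero, smul_add, smul_zero] at e1
    have hx : x = 0 := by
      refine hAinj ?_
      rw [map_zero]
      exact (smul_eq_zero.1 (show (s - s⁻¹) • A x = 0 by rw [sub_smul, e1, sub_self])).resolve_left hss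
    subst hx
    have hr : r = 0 := by
      refine (smul_eq_zero.1 (show (1 - s⁻¹) • r = 0 from ?_)).resolve_left (sub_ne_zero.2 fun e => hs1 ?_)
      · simp only [Θ, tens_zero_right, smul_zero, map_smul, zero_add, smul_add] at he
        linear_combination (norm := module) he
      · rw [← inv_inv s, ← e, inv_one]
    refine ⟨Te.symm y, ?_⟩
    rw [hzu, hr]
    simp [Θ, tens_zero_right, j, tensL_apply]
  -- `A` is not scalar
  have hαF : ∀ r : F, α ≠ algebraMap F _ r := fun r e => hscal ⟨r, by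
    rw [← hια, e, AlgHom.commutes, Module.algebraMap_end_eq_smul_id]⟩
  by_cases hroot : ∃ l : F, P.IsRoot l
  · obtain ⟨l, hl'⟩ := hroot
    let χ : AdjoinRoot P →ₐ[F] F := AdjoinRoot.liftAlgHom P (Algebra.ofId F F) l
      (show Polynomial.eval₂ (RingHom.id F) l P = 0 from hl')
    refine no_character K α D.sym.two hu hl hup (fun y hy => hιinj ?_) hαF χ ?_
    · refine LinearMap.ext fun v => hAinj ?_
      have e := LinearMap.congr_fun (congrArg ι hy) v
      rw [map_mul, hια, map_zero] at e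
      rw [map_zero, LinearMap.zero_apply, map_zero]
      exact e
    · rw [show χ α = l from AdjoinRoot.liftAlgHom_root _ _ _ _]
      intro e
      obtain ⟨v, hv⟩ := (Module.End.hasEigenvalue_of_isRoot (f := A) (e ▸ hl')).exists_hasEigenvector
      exact hv.2 (hAinj (by rw [hv.apply_eq_smul, zero_smul, map_zero]))
  push Not at hroot
  have hdeg : P.natDegree ≤ 3 := by
    refine (Polynomial.natDegree_le_of_dvd (LinearMap.minpoly_dvd_charpoly A) A.charpoly_monic.ne_zero).trans_eq ?_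
    rw [LinearMap.charpoly_natDegree, Module.finrank_fin_fun]
  have hdeg2 : 2 ≤ P.natDegree := by
    have h1 := minpoly.natDegree_pos hint
    by_contra hlt
    have he : P.natDegree = 1 := le_antisymm (Nat.le_of_lt_succ (not_le.1 hlt)) h1
    have := (minpoly.monic hint).eq_X_add_C he
    refine hroot (-(P.coeff 0)) ?_
    show Polynomial.eval (-(P.coeff 0)) P = 0
    conv_lhs => arg 2; rw [show P = _ from this]
    simp [P]
  haveI : Fact (Irreducible P) := ⟨((minpoly.monic hint).irreducible_iff_roots_eq_zero_of_degree_le_three hdeg2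
    hdeg).2 (Multiset.eq_zero_of_forall_notMem fun l hl => hroot l (Polynomial.isRoot_of_mem_roots hl))⟩
  letI : Fintype (AdjoinRoot P) := Fintype.ofFinite _
  refine no_field K α D.sym.two hq hu hl hup hαF fun S hαS hFS => eq_top_iff.2 fun x _ => ?_
  refine AdjoinRoot.induction_on P x fun q => ?_
  induction q using Polynomial.induction_on' with
  | add p q hp hq => rw [map_add]; exact add_mem hp hq
  | monomial k c =>
    rw [← Polynomial.C_mul_X_pow_eq_monomial, map_mul, map_pow, AdjoinRoot.mk_C, AdjoinRoot.mk_X]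
    exact mul_mem (hFS c) (pow_mem hαS _)
where
  tens_sub_right' {a : Fin n → F} {p q : Fin 3 → F} : tens a (p - q) = tens a p - tens a q :=
    map_sub (tensL a) p q

end Cfsg.Agent.Lib.GeomSmallSp.OrthThree.Pair
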