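import Cfsg.Agent.Lib.GeomSmallSp.OrthThree.Root

/-!
Elements fixing a block pointwise and moving the orthogonal of the block only along it lie in the stabiliser,
when all root elements are scalar.
-/

set_option autoImplicit false

namespace Cfsg.Agent.Lib.GeomSmallSp.OrthThree.Quad

open Matrix Kronecker
open Cfsg.Agent.Lib.Subspaces.Transvection Cfsg.Agent.Lib.Subspaces.FormVec
  Cfsg.Agent.Lib.TensorMax.Lemmas Cfsg.Agent.Lib.TensorFormMax.Basic
  Cfsg.Agent.Lib.TensorOrthMax.Side Cfsg.Agent.Lib.GeomSmallSp.OrthThree.Basic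
  Cfsg.Agent.Lib.GeomSmallSp.OrthThree.Side Cfsg.Agent.Lib.GeomSmallSp.OrthThree.Move
  Cfsg.Agent.Lib.GeomSmallSp.OrthThree.Root

variable {F : Type*} [Field F] {n : ℕ}

local notation "V1" => Fin n → F
local notation "V2" => Fin 3 → F
local notation "Vec" => Fin n × Fin 3 → F
local notation "Big" => Matrix (Fin n × Fin 3) (Fin n × Fin 3) F
local notation "G" => GL (Fin n × Fin 3) F

variable {f₁ : (Fin n → F) → (Fin n → F) → F} {f₂ : (Fin 3 → F) → (Fin 3 → F) → F}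
  {B : (Fin n × Fin 3 → F) → (Fin n × Fin 3 → F) → F} {M : Subgroup (GL (Fin n × Fin 3) F)}

/-- The projection to the orthogonal of a hyperbolic pair. -/
def proj (f₁ : (Fin n → F) → (Fin n → F) → F) (a a₀ x : Fin n → F) : Fin n → F :=
  x - f₁ x a • a₀ + f₁ x a₀ • a

/-- `k` fixes `a ⊗ W` and moves its orthogonal along it. -/
structure IsQuad (f₁ : (Fin n → F) → (Fin n → F) → F) (M : Subgroup (GL (Fin n × Fin 3) F))
    (a : Fin n → F) (k : GL (Fin n × Fin 3) F) : Prop where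
  mem : k ∈ M
  fix : ∀ w : Fin 3 → F, (k : Big) *ᵥ tens a w = tens a w
  near : ∀ (u : Fin n → F) (w : Fin 3 → F), f₁ u a = 0 → ∃ x, (k : Big) *ᵥ tens u w = tens u w + tens a x

/-- The coefficient of the movement along `a`. -/
def Y (f₁ : (Fin n → F) → (Fin n → F) → F) (a₀ : Fin n → F) (k : GL (Fin n × Fin 3) F)
    (z : Fin n × Fin 3 → F) : Fin 3 → F :=
  -phi f₁ a₀ ((k : Big) *ᵥ z - z)

variable (D : Data f₁ f₂ B M) {a a₀ : Fin n → F} (ha : f₁ a₀ a = 1)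
include D ha

theorem swap_pair : f₁ a a₀ = -1 := by rw [D.h1.skew a a₀, ha]

theorem proj_left (x : V1) : f₁ (proj f₁ a a₀ x) a = 0 := by
  rw [proj, D.addL₁, D.subL₁, D.smulL₁, D.smulL₁, ha, D.h1.alternating]; ring

theorem proj_left₀ (x : V1) : f₁ (proj f₁ a a₀ x) a₀ = 0 := by
  rw [proj, D.addL₁, D.subL₁, D.smulL₁, D.smulL₁, D.h1.alternating, swap_pair D ha]; ring

theorem proj_self {x : V1} (h : f₁ x a = 0) (h' : f₁ x a₀ = 0) : proj f₁ a a₀ x = x := by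
  rw [proj, h, h']; simp

theorem proj_line : proj f₁ a a₀ a = 0 := by
  rw [proj, D.h1.alternating, swap_pair D ha]; module

theorem proj_top : proj f₁ a a₀ a₀ = 0 := by
  rw [proj, D.h1.alternating, ha]; module

theorem proj_add (x y : V1) : proj f₁ a a₀ (x + y) = proj f₁ a a₀ x + proj f₁ a a₀ y := by
  simp only [proj, D.addL₁]; module

theorem proj_smul (c : F) (x : V1) : proj f₁ a a₀ (c • x) = c • proj f₁ a a₀ x := by
  simp only [proj, D.smulL₁]; module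

theorem decomp (x : V1) : x = f₁ x a • a₀ + (-(f₁ x a₀)) • a + proj f₁ a a₀ x := by
  rw [proj]; module

theorem decomp_perp {x : V1} (h : f₁ x a = 0) : x = proj f₁ a a₀ x + (-(f₁ x a₀)) • a := by
  conv_lhs => rw [decomp D ha x, h]
  module

theorem form_decomp (x y : V1) :
    f₁ x y = -(f₁ x a * f₁ y a₀) + f₁ x a₀ * f₁ y a + f₁ (proj f₁ a a₀ x) (proj f₁ a a₀ y) := by
  simp only [proj, D.addL₁, D.addR₁, D.subL₁, D.subR₁, D.smulL₁, D.smulR₁, D.h1.alternating, ha, swap_pair D ha,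
    D.h1.skew a₀ y, D.h1.skew a y]
  ring

theorem line_of_perp {y : V1} (h : ∀ u, f₁ u a = 0 → f₁ y u = 0) : y = (-(f₁ y a₀)) • a := by
  have hya : f₁ y a = 0 := h a (D.h1.alternating a)
  conv_lhs => rw [decomp_perp D ha hya]
  suffices hp : proj f₁ a a₀ y = 0 by rw [hp, zero_add]
  by_contra hne
  obtain ⟨-, x, hx⟩ := D.h1.nondegenerate _ hne
  apply hx
  have h1 : ∀ u, f₁ u a = 0 → f₁ (proj f₁ a a₀ y) u = 0 := fun u hu => by
    rw [proj, D.addL₁, D.subL₁, D.smulL₁, D.smulL₁, h u hu, hya, D.h1.skew a u, hu]; ring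
  rw [decomp D ha x, D.addR₁, D.addR₁, D.smulR₁, D.smulR₁, proj_left₀ D ha, proj_left D ha,
    h1 _ (proj_left D ha x)]
  ring

/-- A tensor orthogonal to everything orthogonal to the block lies in it. -/
theorem tens_of_phi {z : Vec} (h : ∀ u, f₁ u a = 0 → phi f₁ u z = 0) : z = tens a (-phi f₁ a₀ z) := by
  funext p
  have h1 : col z p.2 = _ := line_of_perp D ha fun u hu => congrFun (h u hu) p.2
  have h2 := congrFun h1 p.1
  show col z p.2 p.1 = a p.1 * _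
  rw [h2, Pi.smul_apply, smul_eq_mul, mul_comm]
  rfl

theorem Y_tens_self (x : V2) : phi f₁ a₀ (tens a x) = -x := by
  rw [D.phi_tens, swap_pair D ha, neg_one_smul]

theorem Y_add (k : G) (x y : Vec) : Y f₁ a₀ k (x + y) = Y f₁ a₀ k x + Y f₁ a₀ k y := by
  rw [Y, Y, Y, mulVec_add, show ((k : Big) *ᵥ x + (k : Big) *ᵥ y) - (x + y) =
    ((k : Big) *ᵥ x - x) + ((k : Big) *ᵥ y - y) by abel, D.phi_add, neg_add]

theorem Y_smul (k : G) (c : F) (x : Vec) : Y f₁ a₀ k (c • x) = c • Y f₁ a₀ k x := by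
  rw [Y, Y, mulVec_smul, ← smul_sub, D.phi_smul, smul_neg]

namespace IsQuad

variable {k k' : GL (Fin n × Fin 3) F} (hk : IsQuad f₁ M a k)
include hk

theorem phi_line (z : Vec) : phi f₁ a ((k : Big) *ᵥ z) = phi f₁ a z :=
  D.eq_left₂ fun w => D.phi_map hk.mem (C := id) hk.fix z w

theorem Y_fix (w : V2) : Y f₁ a₀ k (tens a w) = 0 := by
  rw [Y, hk.fix, sub_self, D.phi_zero, neg_zero]

theorem near_eq {u : V1} (hu : f₁ u a = 0) (w : V2) :
    (k : Big) *ᵥ tens u w = tens u w + tens a (Y f₁ a₀ k (tens u w)) := by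
  obtain ⟨x, hx⟩ := hk.near u w hu
  rw [Y, hx, add_sub_cancel_left, Y_tens_self D ha, neg_neg]

theorem near_perp {z : Vec} (hz : phi f₁ a z = 0) : (k : Big) *ᵥ z = z + tens a (Y f₁ a₀ k z) := by
  have hcol : ∀ c, f₁ (col z c) a = 0 := fun c => congrFun hz c
  conv_lhs => rw [← sum_tens_col z, mulVec_sum]
  have e : ∀ c, (k : Big) *ᵥ tens (col z c) (Pi.single c 1) =
      tens (col z c) (Pi.single c 1) + tens a (Y f₁ a₀ k (tens (col z c) (Pi.single c 1))) := fun c =>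
    hk.near_eq D ha (hcol c) _
  simp only [e, Finset.sum_add_distrib, sum_tens_col]
  congr 1
  let L : Vec →+ Vec := AddMonoidHom.mk' (fun x => tens a (Y f₁ a₀ k x)) fun x y => by
    rw [Y_add D ha, tens_add_right]
  show ∑ c, L _ = L z
  rw [← map_sum, sum_tens_col]

theorem phi_perp {u : V1} (hu : f₁ u a = 0) (hu' : f₁ u a₀ = 0) (w x : V2) :
    f₂ (phi f₁ u ((k : Big) *ᵥ tens a₀ w)) x = -f₂ w (Y f₁ a₀ k (tens u x)) := by
  have h1 := D.iso k hk.mem (tens a₀ w) (tens u x)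
  rw [hk.near_eq D ha hu x, D.addR] at h1
  have h2 : B ((k : Big) *ᵥ tens a₀ w) (tens a (Y f₁ a₀ k (tens u x))) = f₂ w (Y f₁ a₀ k (tens u x)) := by
    rw [← hk.fix, D.iso k hk.mem, D.B_tens, ha, one_mul]
  rw [h2, D.B_tens a₀ u, D.h1.skew a₀ u, hu', D.B_tens_right] at h1
  linear_combination h1

theorem mul (hk' : IsQuad f₁ M a k') : IsQuad f₁ M a (k * k') where
  mem := M.mul_mem hk.mem hk'.mem
  fix w := by rw [gl_mul_mulVec, hk'.fix, hk.fix]
  near u w hu := ⟨_, by rw [gl_mul_mulVec, hk'.near_eq D ha hu, mulVec_add, hk.fix, hk.near_eq D ha hu, add_assoc,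
    ← tens_add_right]⟩

theorem Y_mul (hk' : IsQuad f₁ M a k') {u : V1} (hu : f₁ u a = 0) (w : V2) :
    Y f₁ a₀ (k * k') (tens u w) = Y f₁ a₀ k (tens u w) + Y f₁ a₀ k' (tens u w) := by
  conv_lhs => rw [Y, gl_mul_mulVec, hk'.near_eq D ha hu, mulVec_add, hk.fix, hk.near_eq D ha hu, add_assoc,
    add_sub_cancel_left, ← tens_add_right, Y_tens_self D ha, neg_neg]

theorem inv : IsQuad f₁ M a k⁻¹ where
  mem := M.inv_mem hk.mem
  fix w := by conv_lhs => rw [← hk.fix, gl_inv_mulVec]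
  near u w hu := ⟨-(Y f₁ a₀ k (tens u w)), gl_mulVec_injective k (by
    show (k : Big) *ᵥ _ = (k : Big) *ᵥ _
    rw [gl_mulVec_inv, mulVec_add, hk.fix, hk.near_eq D ha hu, add_assoc, ← tens_add_right, add_neg_cancel,
      tens_zero_right, add_zero])⟩

theorem Y_inv {u : V1} (hu : f₁ u a = 0) (w : V2) : Y f₁ a₀ k⁻¹ (tens u w) = -Y f₁ a₀ k (tens u w) := by
  have h := hk.Y_mul D ha (hk.inv D ha) hu w
  rw [mul_inv_cancel, Y, Units.val_one, one_mulVec, sub_self, D.phi_zero, neg_zero] at h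
  exact eq_neg_of_add_eq_zero_right h.symm

omit hk in
/-- An element fixing the orthogonal of the block is a root element. -/
theorem inR_of_fix {g : G} (hg : g ∈ M) (h : ∀ u w, f₁ u a = 0 → (g : Big) *ᵥ tens u w = tens u w) :
    ∃ A : V2 →ₗ[F] V2, InR f₁ M a A ∧ ∀ z, (g : Big) *ᵥ z = z + tens a (A (phi f₁ a z)) := by
  let A : V2 →ₗ[F] V2 := -(D.phiL a₀ ∘ₗ ((g : Big).mulVecLin - LinearMap.id) ∘ₗ tensL a₀)
  have hA : ∀ w, (g : Big) *ᵥ tens a₀ w - tens a₀ w = tens a (A w) := by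
    intro w
    refine tens_of_phi D ha fun u hu => D.eq_left₂ fun x => ?_
    rw [← D.B_tens_right, D.B_sub_left', D.sym.zeroL]
    conv_lhs => arg 1; rw [← h u x hu, D.iso g hg]
    exact sub_self _
  have hz : ∀ z, (g : Big) *ᵥ z = z + tens a (A (phi f₁ a z)) := by
    intro z
    refine LinearMap.congr_fun (lin_eq_of_tens (S := (g : Big).mulVecLin)
      (T := LinearMap.id + tensL a ∘ₗ A ∘ₗ D.phiL a) fun u w => ?_) z
    show (g : Big) *ᵥ tens u w = tens u w + tens a (A (phi f₁ a (tens u w)))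
    conv_lhs => rw [show u = (u - f₁ u a • a₀) + f₁ u a • a₀ by abel, tens_add_left, tens_smul_left,
      mulVec_add, mulVec_smul, h _ w (by rw [D.subL₁, D.smulL₁, ha, mul_one, sub_self]),
      ← sub_add_cancel ((g : Big) *ᵥ tens a₀ w) (tens a₀ w), hA]
    rw [D.phi_tens, map_smul, tens_smul_right, tens_sub_left, tens_smul_left]
    module
  exact ⟨A, ⟨g, hg, hz⟩, hz⟩

omit hk in
theorem conj_quad {g : G} (hg : g ∈ M) {β β' : V1 →ₗ[F] V1} (hk : IsQuad f₁ M a k)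
    (hgT : ∀ u w, (g : Big) *ᵥ tens u w = tens (β u) w) (hββ : ∀ u, β (β' u) = u) (hβa : β a = a)
    (hiso : ∀ x y, f₁ (β x) (β y) = f₁ x y) :
    IsQuad f₁ M a (g * k * g⁻¹) ∧ ∀ u w, f₁ u a = 0 →
      Y f₁ a₀ (g * k * g⁻¹) (tens u w) = Y f₁ a₀ k (tens (β' u) w) := by
  have hinv : ∀ u w, ((g⁻¹ : G) : Big) *ᵥ tens u w = tens (β' u) w := fun u w => by
    conv_lhs => rw [← hββ u, ← hgT, gl_inv_mulVec]
  have hfix : ∀ w, ((g⁻¹ : G) : Big) *ᵥ tens a w = tens a w := fun w => by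
    conv_lhs => rw [← hβa, ← hgT, gl_inv_mulVec]
  have hperp : ∀ u, f₁ u a = 0 → f₁ (β' u) a = 0 := fun u hu => by rw [← hiso, hββ, hβa, hu]
  have hval : ∀ u w, f₁ u a = 0 → ((g * k * g⁻¹ : G) : Big) *ᵥ tens u w =
      tens u w + tens a (Y f₁ a₀ k (tens (β' u) w)) := fun u w hu => by
    rw [gl_mul_mulVec, gl_mul_mulVec, hinv, hk.near_eq D ha (hperp u hu), mulVec_add, hgT, hgT, hββ, hβa]
  refine ⟨⟨M.mul_mem (M.mul_mem hg hk.mem) (M.inv_mem hg), fun w => ?_, fun u w hu => ⟨_, hval u w hu⟩⟩,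
    fun u w hu => ?_⟩
  · rw [gl_mul_mulVec, gl_mul_mulVec, hfix, hk.fix, hgT, hβa]
  · rw [Y, hval u w hu, add_sub_cancel_left, Y_tens_self D ha, neg_neg]

end IsQuad

/-- The commutator of two such elements. -/
theorem comm_scalar (hS : AllScalar M f₁) {k k' : G} (hk : IsQuad f₁ M a k) (hk' : IsQuad f₁ M a k') :
    ∃ c : F, ∀ w, Y f₁ a₀ k ((k' : Big) *ᵥ tens a₀ w - tens a₀ w) -
      Y f₁ a₀ k' ((k : Big) *ᵥ tens a₀ w - tens a₀ w) = c • w := by
  have ha0 : a ≠ 0 := fun e => by rw [e, D.zeroR₁] at ha; exact zero_ne_one ha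
  have hperp : ∀ {g : G}, IsQuad f₁ M a g → ∀ w, phi f₁ a ((g : Big) *ᵥ tens a₀ w - tens a₀ w) = 0 :=
    fun hg w => by rw [D.phi_sub, hg.phi_line D ha, sub_self]
  have hw : ∀ {g g' : G}, IsQuad f₁ M a g → IsQuad f₁ M a g' → ∀ w, (g : Big) *ᵥ ((g' : Big) *ᵥ tens a₀ w) =
      tens a₀ w + ((g : Big) *ᵥ tens a₀ w - tens a₀ w) + ((g' : Big) *ᵥ tens a₀ w - tens a₀ w) +
        tens a (Y f₁ a₀ g ((g' : Big) *ᵥ tens a₀ w - tens a₀ w)) := by
    intro g g' hg hg' w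
    conv_lhs => rw [← add_sub_cancel (tens a₀ w) ((g' : Big) *ᵥ tens a₀ w), mulVec_add,
      hg.near_perp D ha (hperp hg' w)]
    abel
  have hfix : ∀ u w, f₁ u a = 0 → ((k * k' * (k' * k)⁻¹ : G) : Big) *ᵥ tens u w = tens u w := by
    intro u w hu
    have h1 : ∀ {g g' : G}, IsQuad f₁ M a g → IsQuad f₁ M a g' → ((g * g' : G) : Big) *ᵥ tens u w =
        tens u w + (tens a (Y f₁ a₀ g (tens u w)) + tens a (Y f₁ a₀ g' (tens u w))) := fun hg hg' => by
      rw [gl_mul_mulVec, hg'.near_eq D ha hu, mulVec_add, hg.fix, hg.near_eq D ha hu, add_assoc]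
    have hi := (hk'.mul D ha hk).inv D ha
    rw [gl_mul_mulVec, hi.near_eq D ha hu, mulVec_add, (hk.mul D ha hk').fix, h1 hk hk',
      (hk'.mul D ha hk).Y_inv D ha hu, hk'.Y_mul D ha hk hu, ← tens_add_right a (Y f₁ a₀ k (tens u w)), add_assoc,
      ← tens_add_right]
    rw [show Y f₁ a₀ k (tens u w) + Y f₁ a₀ k' (tens u w) + -(Y f₁ a₀ k' (tens u w) + Y f₁ a₀ k (tens u w)) = 0
      by abel, tens_zero_right, add_zero]
  obtain ⟨A, hA, hAz⟩ := IsQuad.inR_of_fix D ha (M.mul_mem (M.mul_mem hk.mem hk'.mem)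
    (M.inv_mem (M.mul_mem hk'.mem hk.mem))) hfix
  obtain ⟨c, rfl⟩ := hS a A ha0 hA
  refine ⟨c, fun w => ?_⟩
  have h := hAz (((k' * k : G) : Big) *ᵥ tens a₀ w)
  rw [gl_mul_mulVec (k * k'), gl_inv_mulVec, gl_mul_mulVec, gl_mul_mulVec, hk'.phi_line D ha, hk.phi_line D ha,
    D.phi_tens, ha, one_smul, LinearMap.smul_apply, LinearMap.id_apply, hw hk hk', hw hk' hk] at h
  refine tens_eq_tens ha0 ?_
  rw [show Y f₁ a₀ k ((k' : Big) *ᵥ tens a₀ w - tens a₀ w) - Y f₁ a₀ k' ((k : Big) *ᵥ tens a₀ w - tens a₀ w) =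
    Y f₁ a₀ k ((k' : Big) *ᵥ tens a₀ w - tens a₀ w) + (-1 : F) • Y f₁ a₀ k' ((k : Big) *ᵥ tens a₀ w - tens a₀ w)
    by module, tens_add_right, tens_smul_right]
  linear_combination (norm := module) h

theorem exists_eich_quad {u : V1} (hu : f₁ u a = 0) (hu' : f₁ u a₀ = 0) :
    ∃ ε ∈ Cfsg.Geo.kroneckerSubgroup n 3 F, IsQuad f₁ M a ε ∧
      ∀ z, (ε : Big) *ᵥ z = z + tens u (phi f₁ a z) + tens a (phi f₁ u z) := by
  obtain ⟨α, hα, hαx⟩ := Move.exists_eich D hu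
  obtain ⟨g, hg, hgk, hgT⟩ := D.exists_move α LinearMap.id hα fun x y => rfl
  have hz : ∀ z, (g : Big) *ᵥ z = z + tens u (phi f₁ a z) + tens a (phi f₁ u z) := by
    intro z
    refine LinearMap.congr_fun (lin_eq_of_tens (S := (g : Big).mulVecLin)
      (T := LinearMap.id + tensL u ∘ₗ D.phiL a + tensL a ∘ₗ D.phiL u) fun x w => ?_) z
    show (g : Big) *ᵥ tens x w = tens x w + tens u (phi f₁ a (tens x w)) + tens a (phi f₁ u (tens x w))
    rw [hgT, hαx, D.phi_tens, D.phi_tens, tens_smul_right, tens_smul_right, tens_add_left, tens_add_left,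
      tens_smul_left, tens_smul_left]
    rfl
  refine ⟨g, hgk, ⟨hg, fun w => ?_, fun x w hx => ⟨f₁ x u • w, ?_⟩⟩, hz⟩
  · rw [hz, D.phi_self, D.phi_tens, D.h1.skew a u, hu]; simp [tens_zero_right]
  · rw [hz, D.phi_tens, D.phi_tens, hx]; simp [tens_zero_right]

/-- Such an element lies in the stabiliser. -/
theorem mem_kron [Fintype F] (hS : AllScalar M f₁) {k : G} (hk : IsQuad f₁ M a k) :
    k ∈ Cfsg.Geo.kroneckerSubgroup n 3 F := by
  have hf := D.sym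
  -- symmetric parts are scalar
  have hsym : ∀ u, f₁ u a = 0 → f₁ u a₀ = 0 → ∃ c : F, ∀ w x,
      f₂ (Y f₁ a₀ k (tens u w)) x + f₂ w (Y f₁ a₀ k (tens u x)) = c * f₂ w x := by
    intro u hu hu'
    obtain ⟨ε, -, hε, hεz⟩ := exists_eich_quad D ha hu hu'
    obtain ⟨c, hc⟩ := comm_scalar D ha hS hk hε
    refine ⟨c, fun w x => ?_⟩
    have h1 := congrArg (fun y => f₂ y x) (hc w)
    have hd : (ε : Big) *ᵥ tens a₀ w - tens a₀ w = tens u w := by
      rw [hεz, D.phi_tens, D.phi_tens, ha, D.h1.skew a₀ u, hu']; simp [tens_zero_right]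
    set d := (k : Big) *ᵥ tens a₀ w - tens a₀ w with hdk
    have hd' : Y f₁ a₀ ε d = phi f₁ u ((k : Big) *ᵥ tens a₀ w) := by
      rw [Y, hεz, show phi f₁ a d = 0 by rw [hdk, D.phi_sub, hk.phi_line D ha, sub_self], tens_zero_right,
        add_zero, add_sub_cancel_left, Y_tens_self D ha, neg_neg, hdk, D.phi_sub, D.phi_tens, D.h1.skew a₀ u,
        hu', neg_zero, zero_smul, sub_zero]
    simp only [hd, hd', hf.subL, hf.smulL, hk.phi_perp D ha hu hu'] at h1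
    linear_combination h1
  choose c hc using hsym
  obtain ⟨w₀, e₀, w₁, h⟩ := exists_hyp hf
  let φ : V1 →ₗ[F] F :=
    { toFun := fun u => (f₂ (Y f₁ a₀ k (tens (proj f₁ a a₀ u) w₀)) w₁ +
        f₂ w₀ (Y f₁ a₀ k (tens (proj f₁ a a₀ u) w₁))) / 2
      map_add' := fun x y => by
        rw [proj_add D ha, tens_add_left, tens_add_left, Y_add D ha, Y_add D ha, hf.addL, hf.addR]; ring
      map_smul' := fun r x => by
        rw [proj_smul D ha, tens_smul_left, tens_smul_left, Y_smul D ha, Y_smul D ha, hf.smulL, hf.smulR,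
          RingHom.id_apply, smul_eq_mul]
        ring }
  obtain ⟨v₀, hv₀⟩ := formVec_surjective (isLinearLeft_of_bilinear D.h1.bilinear) D.addR₁ D.h1.nondegenerate
    ((dotProductEquiv F (Fin n)).symm φ)
  have hv₀' : ∀ u, f₁ u v₀ = φ u := fun u => by
    rw [← formVec_dot (isLinearLeft_of_bilinear D.h1.bilinear), hv₀]
    have := congrArg (fun g : Module.Dual F V1 => g u) ((dotProductEquiv F (Fin n)).apply_symm_apply φ)
    rwa [dotProductEquiv_apply_apply] at this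
  set v := proj f₁ a a₀ v₀
  obtain ⟨ε, hεk, hε, hεz⟩ := exists_eich_quad D ha (proj_left D ha v₀) (proj_left₀ D ha v₀)
  have hεY : ∀ u w, f₁ u a = 0 → f₁ u a₀ = 0 → Y f₁ a₀ ε (tens u w) = φ u • w := by
    intro u w hu hu'
    rw [Y, hεz, D.phi_tens, hu, zero_smul, tens_zero_right, add_zero, add_sub_cancel_left, Y_tens_self D ha,
      neg_neg, D.phi_tens, ← hv₀']
    have e := form_decomp D ha u v₀
    rw [hu, hu', proj_self D ha hu hu'] at e
    rw [e]; ring_nf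
  -- skew part
  set k' := k * ε⁻¹
  have hk' : IsQuad f₁ M a k' := hk.mul D ha (hε.inv D ha)
  suffices hz : ∀ u w, f₁ u a = 0 → f₁ u a₀ = 0 → Y f₁ a₀ k' (tens u w) = 0 by
    have hfix : ∀ u w, f₁ u a = 0 → (k' : Big) *ᵥ tens u w = tens u w := by
      intro u w hu
      conv_lhs => rw [decomp_perp D ha hu, tens_add_left, tens_smul_left, mulVec_add, mulVec_smul, hk'.fix,
        hk'.near_eq D ha (proj_left D ha u), hz _ w (proj_left D ha u) (proj_left₀ D ha u), tens_zero_right,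
        add_zero]
      conv_rhs => rw [decomp_perp D ha hu, tens_add_left, tens_smul_left]
    obtain ⟨A, hA, hAz⟩ := IsQuad.inR_of_fix D ha hk'.mem hfix
    obtain ⟨r, rfl⟩ := hS a A (fun e => by rw [e, D.zeroR₁] at ha; exact zero_ne_one ha) hA
    obtain ⟨g, -, hgk, hgz⟩ := D.exists_root a r
    have hkg : k' = g := gl_ext fun z => by rw [hAz, hgz]; rfl
    rw [show k = k' * ε by simp [k'], hkg]
    exact mul_mem hgk hεk
  have hY : ∀ u w, f₁ u a = 0 → f₁ u a₀ = 0 →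
      Y f₁ a₀ k' (tens u w) = Y f₁ a₀ k (tens u w) - φ u • w := fun u w hu hu' => by
    rw [hk.Y_mul D ha (hε.inv D ha) hu, hε.Y_inv D ha hu, hεY u w hu hu', sub_eq_add_neg]
  have hskew : ∀ u, f₁ u a = 0 → f₁ u a₀ = 0 → ∀ w x,
      f₂ (Y f₁ a₀ k' (tens u w)) x + f₂ w (Y f₁ a₀ k' (tens u x)) = 0 := by
    intro u hu hu' w x
    have hcu : 2 * φ u = c u hu hu' := by
      have e := hc u hu hu' w₀ w₁
      rw [h.wv, mul_one] at e
      show 2 * ((f₂ (Y f₁ a₀ k (tens (proj f₁ a a₀ u) w₀)) w₁ +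
        f₂ w₀ (Y f₁ a₀ k (tens (proj f₁ a a₀ u) w₁))) / 2) = _
      rw [proj_self D ha hu hu', e, mul_div_cancel₀ _ hf.two]
    rw [hY u w hu hu', hY u x hu hu', hf.subL, hf.subR, hf.smulL, hf.smulR]
    linear_combination hc u hu hu' w x - f₂ w x * hcu
  intro u₁ w₂ hu₁ hu₁'
  by_contra hne
  have hu0 : u₁ ≠ 0 := fun e => hne (by rw [e, tens_zero_left, Y, mulVec_zero, sub_self, D.phi_zero, neg_zero])
  -- a single skew map
  obtain ⟨β, hβ, hβx⟩ := Move.exists_transvection D u₁ 1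
  obtain ⟨β', hβ', hβ'x⟩ := Move.exists_transvection D u₁ (-1)
  obtain ⟨g, hg, -, hgT⟩ := D.exists_move β LinearMap.id hβ fun x y => rfl
  have hua : f₁ a u₁ = 0 := by rw [D.h1.skew a u₁, hu₁, neg_zero]
  have hua' : f₁ a₀ u₁ = 0 := by rw [D.h1.skew a₀ u₁, hu₁', neg_zero]
  obtain ⟨hc1, hc1Y⟩ := IsQuad.conj_quad D ha hg (β := β) (β' := β') hk' hgT
    (fun u => by
      rw [hβx, hβ'x, D.addL₁, D.smulL₁, D.h1.alternating, one_mul, mul_zero, add_zero]; module)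
    (by rw [hβx, hua, mul_zero, zero_smul, add_zero]) hβ
  set k₁ := g * k' * g⁻¹ * k'⁻¹
  have hk₁ : IsQuad f₁ M a k₁ := hc1.mul D ha (hk'.inv D ha)
  let K : V2 → V2 := fun w => -Y f₁ a₀ k' (tens u₁ w)
  have hK : ∀ u w, f₁ u a = 0 → f₁ u a₀ = 0 → Y f₁ a₀ k₁ (tens u w) = f₁ u u₁ • K w := by
    intro u w hu hu'
    rw [hc1.Y_mul D ha (hk'.inv D ha) hu, hc1Y u w hu, hk'.Y_inv D ha hu, hβ'x, tens_add_left, tens_smul_left,
      Y_add D ha, Y_smul D ha]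
    show _ = f₁ u u₁ • -Y f₁ a₀ k' (tens u₁ w)
    module
  have hKskew : ∀ w x, f₂ (K w) x + f₂ w (K x) = 0 := fun w x => by
    show f₂ (-Y f₁ a₀ k' (tens u₁ w)) x + f₂ w (-Y f₁ a₀ k' (tens u₁ x)) = 0
    rw [hf.negL, hf.negR, ← neg_add, hskew u₁ hu₁ hu₁', neg_zero]
  -- a conjugate with another centre
  obtain ⟨⟨z, hz⟩, -⟩ := D.h1.nondegenerate u₁ hu0
  set u₂ := proj f₁ a a₀ z
  have hu₂ : f₁ u₁ u₂ ≠ 0 := by
    have e := form_decomp D ha u₁ z
    rw [hu₁, hu₁', proj_self D ha hu₁ hu₁'] at e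
    rw [D.h1.skew, neg_ne_zero, D.h1.skew]
    simp only [zero_mul, neg_zero, zero_add] at e
    rw [← e, ← D.h1.skew]
    exact hz
  have h2a : f₁ a u₂ = 0 := by rw [D.h1.skew a u₂, proj_left D ha, neg_zero]
  have h2a' : f₁ a₀ u₂ = 0 := by rw [D.h1.skew a₀ u₂, proj_left₀ D ha, neg_zero]
  obtain ⟨γ, hγ, hγx⟩ := Move.exists_transvection D u₂ 1
  obtain ⟨γ', hγ', hγ'x⟩ := Move.exists_transvection D u₂ (-1)
  obtain ⟨g', hg', -, hg'T⟩ := D.exists_move γ LinearMap.id hγ fun x y => rfl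
  have hγγ : ∀ u, γ (γ' u) = u := fun u => by
    rw [hγx, hγ'x, D.addL₁, D.smulL₁, D.h1.alternating, one_mul, mul_zero, add_zero]; module
  obtain ⟨hk₂, hk₂Y⟩ := IsQuad.conj_quad D ha hg' (β := γ) (β' := γ') hk₁ hg'T hγγ
    (by rw [hγx, h2a, mul_zero, zero_smul, add_zero]) hγ
  set v₂ := γ u₁
  have hv₂ : f₁ u₁ v₂ = f₁ u₁ u₂ * f₁ u₁ u₂ := by
    show f₁ u₁ (γ u₁) = _
    rw [hγx, D.addR₁, D.smulR₁, D.h1.alternating, one_mul, zero_add]
  have hv₂a : f₁ v₂ a = 0 := by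
    show f₁ (γ u₁) a = 0
    rw [hγx, D.addL₁, D.smulL₁, hu₁, proj_left D ha]; ring
  have hv₂a' : f₁ v₂ a₀ = 0 := by
    show f₁ (γ u₁) a₀ = 0
    rw [hγx, D.addL₁, D.smulL₁, hu₁', proj_left₀ D ha]; ring
  have hK₂ : ∀ u w, f₁ u a = 0 → f₁ u a₀ = 0 → Y f₁ a₀ (g' * k₁ * g'⁻¹) (tens u w) = f₁ u v₂ • K w := by
    intro u w hu hu'
    rw [hk₂Y u w hu, hK _ w ?_ ?_]
    · show f₁ (γ' u) u₁ • K w = f₁ u (γ u₁) • K w
      congr 1
      rw [← hγ, hγγ]
    · rw [hγ'x, D.addL₁, D.smulL₁, hu, proj_left D ha]; ring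
    · rw [hγ'x, D.addL₁, D.smulL₁, hu', proj_left₀ D ha]; ring
  -- the middle part of such an element
  have hmid : ∀ {q : G} {p : V1}, IsQuad f₁ M a q → f₁ p a = 0 → f₁ p a₀ = 0 →
      (∀ u w, f₁ u a = 0 → f₁ u a₀ = 0 → Y f₁ a₀ q (tens u w) = f₁ u p • K w) →
      ∀ w, ∃ t, (q : Big) *ᵥ tens a₀ w - tens a₀ w = tens a t + tens (-p) (K w) := by
    intro q p hq hp hp' hqY w
    refine ⟨-phi f₁ a₀ ((q : Big) *ᵥ tens a₀ w - tens a₀ w + tens p (K w)), ?_⟩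
    rw [← tens_of_phi D ha (z := (q : Big) *ᵥ tens a₀ w - tens a₀ w + tens p (K w)) fun u hu => ?_]
    · rw [← neg_one_smul F p, tens_smul_left]; module
    rw [decomp_perp D ha hu, D.phi_addC, D.phi_smulC, D.phi_add, D.phi_add, D.phi_sub, D.phi_sub,
      hq.phi_line D ha, D.phi_tens, D.phi_tens, D.phi_tens, D.phi_tens, hp, ha, sub_self, zero_smul, add_zero,
      smul_zero, add_zero]
    refine D.eq_left₂ fun x => ?_
    rw [hf.addL, hf.subL, hq.phi_perp D ha (proj_left D ha u) (proj_left₀ D ha u),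
      hqY _ x (proj_left D ha u) (proj_left₀ D ha u), hf.smulR, hf.smulL, hf.smulL, hf.zeroL,
      D.h1.skew a₀ (proj f₁ a a₀ u), proj_left₀ D ha, D.h1.skew p (proj f₁ a a₀ u)]
    linear_combination -(f₁ (proj f₁ a a₀ u) p) * hKskew w x
  obtain ⟨c₀, hc₀⟩ := comm_scalar D ha hS hk₁ hk₂
  -- so the square is scalar
  have hKK : ∀ w, (2 * f₁ u₁ v₂) • K (K w) = c₀ • w := by
    intro w
    obtain ⟨t₁, ht₁⟩ := hmid hk₁ hu₁ hu₁' hK w
    obtain ⟨t₂, ht₂⟩ := hmid hk₂ hv₂a hv₂a' hK₂ w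
    have hneg : ∀ {p : V1} (_ : f₁ p a = 0) (_ : f₁ p a₀ = 0), f₁ (-p) a = 0 ∧ f₁ (-p) a₀ = 0 :=
      fun {p} h h' => by rw [← neg_one_smul F p, D.smulL₁, D.smulL₁, h, h']; simp
    obtain ⟨n1, n1'⟩ := hneg hu₁ hu₁'
    obtain ⟨n2, n2'⟩ := hneg hv₂a hv₂a'
    rw [← hc₀ w, ht₁, ht₂, Y_add D ha, Y_add D ha, hk₁.Y_fix D ha, hk₂.Y_fix D ha, hK _ _ n2 n2', hK₂ _ _ n1 n1',
      ← neg_one_smul F v₂, ← neg_one_smul F u₁, D.smulL₁, D.smulL₁, D.h1.skew v₂ u₁]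
    module
  have hK2 : ∀ w, K (K w) = (c₀ / (2 * f₁ u₁ v₂)) • w := fun w => by
    have hne2 : (2 * f₁ u₁ v₂) ≠ 0 := mul_ne_zero hf.two (by rw [hv₂]; exact mul_ne_zero hu₂ hu₂)
    rw [div_eq_inv_mul, ← smul_smul, eq_inv_smul_iff₀ hne2, hKK]
  set d := c₀ / (2 * f₁ u₁ v₂)
  -- a skew map of a space of odd dimension has square zero, so vanishes
  have hself : ∀ w, f₂ (K w) w = 0 := fun w => by
    have e := hKskew w w
    rw [hf.comm (K w) w] at e
    have : (2 : F) * f₂ (K w) w = 0 := by rw [two_mul]; exact e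
    exact (mul_eq_zero.1 this).resolve_left hf.two
  have hd : d = 0 := by
    by_contra hd
    have hKz : ∀ x, f₂ (K x) (K x) = -d * f₂ x x := fun x => by
      have e := hKskew x (K x)
      rw [hK2, hf.smulR] at e
      linear_combination e
    -- the image of an isotropic vector is isotropic and orthogonal to it
    obtain ⟨r, hr⟩ := iso_prop hf (h.w_ne hf) h.ww (by rw [hKz, h.ww, mul_zero]) (hself w₀)
    have hKw : K w₁ = f₂ (K w₁) w₁ • w₀ + (f₂ (K w₁) e₀ / f₂ e₀ e₀) • e₀ + f₂ (K w₁) w₀ • w₁ := h.expand hf _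
    have e1 : f₂ (K w₁) w₀ = -r := by
      have e := hKskew w₁ w₀
      rw [hr, hf.smulR, hf.comm w₀ w₁, h.wv] at e
      linear_combination e
    have hKe : f₂ (K e₀) w₀ = 0 := by
      have e := hKskew e₀ w₀
      rw [hr, hf.smulR, hf.comm w₀ e₀, h.we] at e
      linear_combination e
    have hKe' : K e₀ = f₂ (K e₀) w₁ • w₀ := by
      conv_lhs => rw [h.expand hf (K e₀), hKe, hself e₀, zero_div, zero_smul, zero_smul, add_zero, add_zero]
    have h5 := hKz e₀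
    rw [hKe', hf.smulL, hf.smulR, h.ww, mul_zero, mul_zero] at h5
    exact mul_ne_zero (neg_ne_zero.2 hd) h.ee h5.symm
  have hsing : ∀ w x, f₂ (K w) (K x) = 0 := fun w x => by
    have e := hKskew w (K x)
    rw [hK2, hd, zero_smul, hf.zeroR, add_zero] at e
    exact e
  have hK0 : K w₂ ≠ 0 := fun e => hne (neg_eq_zero.1 e)
  have hzero : ∀ x, f₂ x (K w₂) ≠ 0 → K x = 0 := fun x hx => by
    obtain ⟨r, hr⟩ := iso_prop hf hK0 (hsing _ _) (hsing x x) (hsing x w₂)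
    have e := hself x
    rw [hr, hf.smulL, hf.comm x] at e
    rw [hr, (mul_eq_zero.1 e).resolve_right hx, zero_smul]
  obtain ⟨y, hy⟩ := hf.sf.nondeg _ hK0
  have hKadd : ∀ x y, K (x + y) = K x + K y := fun x y => by
    show -Y f₁ a₀ k' (tens u₁ (x + y)) = _
    rw [tens_add_right, Y_add D ha, neg_add]
  rcases eq_or_ne (f₂ w₂ (K w₂)) 0 with h0 | h0
  · have h1 := hzero (w₂ + y) (by rw [hf.addL, h0, zero_add]; exact hy)
    rw [hKadd, hzero y hy, add_zero] at h1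
    exact hK0 h1
  · exact hK0 (hzero w₂ h0)

end Cfsg.Agent.Lib.GeomSmallSp.OrthThree.Quad
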