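import Cfsg.Agent.Lib.GeomSmallSp.OrthThree.Move

/-!
A non-scalar root element gives every transvection.
-/

set_option autoImplicit false

namespace Cfsg.Agent.Lib.GeomSmallSp.OrthThree.Root

open Matrix Kronecker
open Cfsg.Agent.Lib.Subspaces.Transvection Cfsg.Agent.Lib.Subspaces.FormVec
  Cfsg.Agent.Lib.Subspaces.SympGen Cfsg.Agent.Lib.Subspaces.SympCenters
  Cfsg.Agent.Lib.TensorMax.Lemmas Cfsg.Agent.Lib.TensorFormMax.Basic
  Cfsg.Agent.Lib.TensorOrthMax.Side Cfsg.Agent.Lib.GeomSmallSp.OrthThree.Basic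
  Cfsg.Agent.Lib.GeomSmallSp.OrthThree.Side Cfsg.Agent.Lib.GeomSmallSp.OrthThree.Move

variable {F : Type*} [Field F] {n : ℕ}

local notation "V1" => Fin n → F
local notation "V2" => Fin 3 → F
local notation "Vec" => Fin n × Fin 3 → F
local notation "Big" => Matrix (Fin n × Fin 3) (Fin n × Fin 3) F
local notation "G" => GL (Fin n × Fin 3) F

variable {f₁ : (Fin n → F) → (Fin n → F) → F} {f₂ : (Fin 3 → F) → (Fin 3 → F) → F}
  {B : (Fin n × Fin 3 → F) → (Fin n × Fin 3 → F) → F} {M : Subgroup (GL (Fin n × Fin 3) F)}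
  (D : Data f₁ f₂ B M)
include D

/-- The symmetric map `z ↦ (z, x) y + (z, y) x`. -/
def sy (x y : V2) : V2 →ₗ[F] V2 where
  toFun := fun z => f₂ z x • y + f₂ z y • x
  map_add' := fun a c => by simp only [D.sym.addL]; match_scalars <;> ring
  map_smul' := fun r c => by simp only [D.sym.smulL, RingHom.id_apply]; match_scalars <;> ring

theorem sy_apply (x y z : V2) : sy D x y z = f₂ z x • y + f₂ z y • x := rfl

theorem sy_conj {o o' : V2 →ₗ[F] V2} (ho : ∀ x y, f₂ (o x) (o y) = f₂ x y) (hoo : ∀ x, o' (o x) = x)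
    (x y : V2) : o ∘ₗ sy D x y ∘ₗ o' = sy D (o x) (o y) := by
  have hinj : Function.Injective o := Function.LeftInverse.injective hoo
  refine LinearMap.ext fun z => ?_
  obtain ⟨z, rfl⟩ := LinearMap.surjective_of_injective hinj z
  simp only [LinearMap.comp_apply, sy_apply, hoo, map_add, map_smul, ho]

/-- Every non-scalar self-adjoint map moves some isotropic vector out of the line it spans, seen by `e`. -/
theorem exists_hyp_move [Fintype F] {A : V2 →ₗ[F] V2} (hA : ∀ x y, f₂ (A x) y = f₂ x (A y))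
    (hns : ¬ ∃ c : F, A = c • LinearMap.id) : ∃ w e w', Hyp f₂ w e w' ∧ f₂ (A w) e ≠ 0 := by
  have hf := D.sym
  by_contra hc
  push Not at hc
  -- isotropic vectors are eigenvectors
  have heig : ∀ w e w', Hyp f₂ w e w' → A w = f₂ (A w) w' • w := by
    intro w e w' h
    obtain ⟨o, o', ho, -, h1, h2, -⟩ := h.exists_shear hf 1
    have a1 := hc w e w' h
    have a2 := hc _ _ _ (h.shear ho h1 h2)
    rw [hf.addR, hf.smulR, a1, zero_add, one_mul] at a2
    conv_lhs => rw [h.expand hf (A w), a1, a2, zero_div, zero_smul, zero_smul, add_zero, add_zero]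
  obtain ⟨w, e, w', h⟩ := exists_hyp hf
  have hw := heig _ _ _ h
  have hw' := heig _ _ _ (h.swap hf)
  set l := f₂ (A w) w' with hl
  rw [show f₂ (A w') w = l by rw [hA, hf.comm]] at hw'
  have he : A e = (f₂ (A e) e / f₂ e e) • e := by
    have e1 : f₂ (A e) w = 0 := by rw [hA, hw, hf.smulR, hf.comm w e, h.we, mul_zero]
    have e2 : f₂ (A e) w' = 0 := by rw [hA, hw', hf.smulR, hf.comm w' e, h.ve, mul_zero]
    conv_lhs => rw [h.expand hf (A e), e1, e2, zero_smul, zero_smul, zero_add, add_zero]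
  obtain ⟨o, o', ho, -, h1, h2, h3⟩ := h.exists_shear hf 1
  have hx := heig _ _ _ ((h.shear ho h1 h2).swap hf)
  set k := f₂ (A (o w')) w
  rw [h3, map_sub, map_sub, map_smul, map_smul, he, hw, hw'] at hx
  set ν := f₂ (A e) e / f₂ e e
  have t1 := congrArg (fun z => f₂ z w) hx
  have t2 := congrArg (fun z => f₂ z e) hx
  have hvw : f₂ w' w = 1 := by rw [hf.comm, h.wv]
  simp only [hf.subL, hf.smulL, h.we, h.ve, h.ww, hvw, hf.comm w e] at t1 t2
  ring_nf at t1
  have hee := h.ee
  field_simp at t2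
  have hν : ν = l := mul_left_cancel₀ hee (by linear_combination -t2 - (f₂ e e) * t1)
  rw [hν] at he
  refine hns ⟨l, LinearMap.ext fun z => ?_⟩
  rw [LinearMap.smul_apply, LinearMap.id_apply]
  conv_lhs => rw [h.expand hf z]
  conv_rhs => rw [h.expand hf z]
  rw [map_add, map_add, map_smul, map_smul, map_smul, hw, he, hw']
  module

/-- A non-scalar root gives the map `z ↦ (z, w) w` of an isotropic `w`. -/
theorem exists_sq_root [Fintype F] (hq : 5 ≤ Fintype.card F) {b : V1} {A : V2 →ₗ[F] V2} (hb : b ≠ 0)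
    (hA : InR f₁ M b A) (hns : ¬ ∃ c : F, A = c • LinearMap.id) :
    ∃ w, w ≠ 0 ∧ f₂ w w = 0 ∧ InR f₁ M b (sy D w w) := by
  classical
  have hf := D.sym
  obtain ⟨w, e, w', h, hwe⟩ := exists_hyp_move D (D.inR_self_adjoint hb hA) hns
  have hee := h.ee
  -- the part changing sign with `e`
  obtain ⟨r, hr, hrr, hrz⟩ := exists_reflection hf h.ee
  set v := A e - (f₂ (A e) e / (f₂ e e)) • e
  have h1 : InR f₁ M b (sy D e v) := by
    have hO : sy D e v = ((f₂ e e) / 2) • (A + -(r ∘ₗ A ∘ₗ r)) := by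
      refine LinearMap.ext fun z => ?_
      have hz := D.inR_self_adjoint hb hA
      simp only [sy_apply, LinearMap.smul_apply, LinearMap.add_apply, LinearMap.neg_apply, LinearMap.comp_apply,
        hrz, map_sub, map_smul, hf.subL, hf.smulL, v, hf.subR, hf.smulR]
      rw [hz z e]
      have h2 := hf.two
      match_scalars <;> field_simp <;> ring
    rw [hO]
    exact inR_smul D (D.inR_add hA (D.inR_neg (inR_conj₂ D hA hr hrr))) _
  obtain ⟨s, hs⟩ := exists_avoid hq {0, 1, -1} (Finset.card_le_three.trans (by norm_num))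
  simp only [Finset.mem_insert, Finset.mem_singleton, not_or] at hs
  obtain ⟨o, o', ho, hoo, ho1, ho2, ho3⟩ := h.exists_torus hf hs.1
  have hev : v = f₂ (A e) w' • w + f₂ (A e) w • w' := by
    show A e - _ = _
    conv_lhs => arg 1; rw [h.expand hf (A e)]
    module
  have hq0 : f₂ (A e) w ≠ 0 := by rwa [D.inR_self_adjoint hb hA, hf.comm]
  set p := f₂ (A e) w'
  set q := f₂ (A e) w
  have h2 : InR f₁ M b (sy D e w') := by
    have h2 := inR_conj₂ D h1 ho hoo
    rw [sy_conj D ho hoo] at h2
    have h3 : sy D e w' = (q * (s⁻¹ - s))⁻¹ • (sy D (o e) (o v) + -(s • sy D e v)) := by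
      have hd : q * (s⁻¹ - s) ≠ 0 := by
        refine mul_ne_zero hq0 (sub_ne_zero.2 fun e0 => ?_)
        have : (s - 1) * (s + 1) = 0 := by
          have := hs.1
          field_simp at e0
          linear_combination -e0
        rcases mul_eq_zero.1 this with e1 | e1
        · exact hs.2.1 (sub_eq_zero.1 e1)
        · exact hs.2.2 (eq_neg_of_add_eq_zero_left e1)
      refine LinearMap.ext fun z => ?_
      rw [eq_comm, LinearMap.smul_apply, inv_smul_eq_iff₀ hd]
      simp only [sy_apply, LinearMap.add_apply, LinearMap.neg_apply, LinearMap.smul_apply, hev, map_add, map_smul,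
        ho1, ho2, ho3, hf.addR, hf.smulR]
      match_scalars <;> ring
    rw [h3]
    exact inR_smul D (D.inR_add h2 (D.inR_neg (inR_smul D h1 _))) _
  obtain ⟨x, x', hx, hxx, hx1, hx2, -⟩ := (h.swap hf).exists_shear hf 1
  have h3 := inR_conj₂ D h2 hx hxx
  rw [sy_conj D hx hxx, hx1, hx2] at h3
  refine ⟨w', (h.swap hf).w_ne hf, h.vv, ?_⟩
  have h4 : sy D w' w' = sy D (e + (1 : F) • w') w' + -sy D e w' := by
    refine LinearMap.ext fun z => ?_
    simp only [sy_apply, LinearMap.add_apply, LinearMap.neg_apply, hf.addR, one_smul]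
    module
  rw [h4]
  exact D.inR_add h3 (D.inR_neg h2)

variable (f₂ M) in
/-- The only root elements are scalar. -/
def AllScalar (f₁ : (Fin n → F) → (Fin n → F) → F) : Prop :=
  ∀ (b : Fin n → F) (A : (Fin 3 → F) →ₗ[F] (Fin 3 → F)), b ≠ 0 → InR f₁ M b A →
    ∃ c : F, A = c • LinearMap.id

theorem center_of_sy {b : V1} {w : V2} (h : InR f₁ M b (sy D w w)) : SympCenter B M (tens b w) := by
  intro r
  obtain ⟨g, hg, hgz⟩ := inR_smul D h (r / 2)
  have e : tv (tens b w) (r • formVec B (tens b w)) = g := gl_ext fun z => by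
    rw [stv_mulVec D.B_symp, hgz, D.B_tens_right, LinearMap.smul_apply, sy_apply, ← two_smul F, smul_smul,
      smul_smul, tens_smul_right]
    have := D.sym.two
    congr 2
    field_simp
  rwa [e]

omit D in
theorem exists_ne_zero₃ {V : Type*} [AddCommGroup V] [Module F V] [Fintype F] (hq : 5 ≤ Fintype.card F)
    (L : Fin 3 → V →ₗ[F] F) (hL : ∀ i, L i ≠ 0) : ∃ v, ∀ i, L i v ≠ 0 := by
  classical
  have key : ∀ k : Fin 3, ∀ v : V, ∃ u, L k u ≠ 0 ∧ ∀ i, L i v ≠ 0 → L i u ≠ 0 := by
    intro k v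
    by_cases hk : L k v ≠ 0
    · exact ⟨v, hk, fun i h => h⟩
    rw [not_not] at hk
    obtain ⟨w, hw⟩ : ∃ w, L k w ≠ 0 := not_forall.1 fun h => hL k (LinearMap.ext h)
    obtain ⟨t, ht⟩ := exists_avoid hq (insert 0 (Finset.univ.image fun i => -L i v / L i w))
      ((Finset.card_insert_le _ _).trans (by
        have := (Finset.card_image_le (s := (Finset.univ : Finset (Fin 3))) (f := fun i => -L i v / L i w))
        rw [Finset.card_univ, Fintype.card_fin] at this
        omega))
    simp only [Finset.mem_insert, Finset.mem_image, Finset.mem_univ, true_and, not_or, not_exists] at ht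
    refine ⟨v + t • w, by rw [map_add, map_smul, hk, zero_add]; exact smul_ne_zero ht.1 hw, fun i hi => ?_⟩
    rw [map_add, map_smul, smul_eq_mul]
    intro e
    rcases eq_or_ne (L i w) 0 with h0 | h0
    · exact hi (by rw [h0, mul_zero, add_zero] at e; exact e)
    · exact ht.2 i (by rw [div_eq_iff h0]; linear_combination -e)
  obtain ⟨v0, hv0, -⟩ := key 0 0
  obtain ⟨v1, hv1, hk1⟩ := key 1 v0
  obtain ⟨v2, hv2, hk2⟩ := key 2 v1
  refine ⟨v2, fun i => ?_⟩
  fin_cases i
  · exact hk2 0 (hk1 0 hv0)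
  · exact hk2 1 hv1
  · exact hv2

/-- A non-scalar root gives every transvection. -/
theorem all_centers [Fintype F] (hq : 5 ≤ Fintype.card F) (hns : ¬ AllScalar M f₁) :
    ∀ v, SympCenter B M v := by
  have hf := D.sym
  have hBs := D.B_symp
  simp only [AllScalar, not_forall] at hns
  obtain ⟨b₀, A, hb₀, hA, hA'⟩ := hns
  obtain ⟨w₀, hw₀, hw₀w, hS⟩ := exists_sq_root D hq hb₀ hA hA'
  have hc₀ := center_of_sy D hS
  have hiso : ∀ b, b ≠ 0 → ∀ w, f₂ w w = 0 → SympCenter B M (tens b w) := by
    intro b hb w hw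
    obtain ⟨α, hα, hαb⟩ := exists_smul_eq D hb₀ hb
    have hmove : ∀ o : V2 →ₗ[F] V2, (∀ x y, f₂ (o x) (o y) = f₂ x y) → SympCenter B M (tens b (o w₀)) := by
      intro o ho
      obtain ⟨g, hg, -, hgT⟩ := D.exists_move α o hα ho
      have := sympCenter_conj hBs hc₀ hg (D.iso g hg)
      rwa [hgT, hαb] at this
    rcases eq_or_ne (f₂ w w₀) 0 with h0 | h0
    · obtain ⟨c, rfl⟩ := iso_prop hf hw₀ hw₀w hw h0
      rw [tens_smul_right]
      exact sympCenter_smul hBs (hmove LinearMap.id fun x y => rfl) c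
    · have hne : f₂ (w₀ - w) (w₀ - w) ≠ 0 := by
        rw [hf.subL, hf.subR, hf.subR, hw₀w, hw, hf.comm w w₀]
        intro e
        have : (2 : F) * f₂ w w₀ = 0 := by linear_combination -e
        exact h0 ((mul_eq_zero.1 this).resolve_left hf.two)
      obtain ⟨o, ho, -, hoz⟩ := exists_reflection hf hne
      have := hmove o ho
      rwa [hoz, show (2 * f₂ w₀ (w₀ - w) / f₂ (w₀ - w) (w₀ - w)) = 1 from
        (div_eq_one_iff_eq hne).2 (by rw [hf.subR, hf.subL, hf.subR, hf.subR, hw₀w, hw, hf.comm w w₀]; ring),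
        one_smul, sub_sub_cancel] at this
  have hpure : ∀ b w, SympCenter B M (tens b w) := by
    intro b v
    rcases eq_or_ne b 0 with rfl | hb
    · rw [tens_zero_left]; exact sympCenter_zero M
    rcases eq_or_ne (f₂ v v) 0 with hv | hv
    · exact hiso b hb v hv
    have hv0 : v ≠ 0 := fun e => hv (by rw [e, hf.zeroL])
    obtain ⟨_, _, _, h⟩ := exists_hyp hf
    obtain ⟨u, hu, hvu⟩ := h.exists_iso_nonorth hf hv0
    set k := f₂ v v / (2 * f₂ v u)
    have h2 := hf.two
    set x := k • u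
    set y := v - x
    have hxx : f₂ x x = 0 := hf.iso_smul hu k
    have hyy : f₂ y y = 0 := by
      simp only [y, x, hf.subL, hf.subR, hf.smulL, hf.smulR, hu, hf.comm v u, k]
      field_simp
      ring
    have hxy : f₂ x y ≠ 0 := by
      simp only [y, hf.subR, hxx, x, hf.smulL, sub_zero, hf.comm v u, k]
      exact mul_ne_zero (div_ne_zero hv (mul_ne_zero h2 hvu)) hvu
    obtain ⟨a, ha⟩ := D.exists_partner hb
    have ha0 : a ≠ 0 := fun e => by rw [e, D.zeroL₁] at ha; exact zero_ne_one ha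
    have hba0 : b - a ≠ 0 := fun e => by
      rw [sub_eq_zero.1 e, D.h1.alternating] at ha; exact zero_ne_one ha
    have hba : f₁ b a ≠ 0 := by rw [D.h1.skew, ha]; simp
    have c1 : SympCenter B M (tens a y + (1 : F) • tens b x) :=
      sympCenter_add_smul hBs (hiso b hb x hxx) (hiso a ha0 y hyy)
        (by rw [D.B_tens, hf.comm]; exact mul_ne_zero (by rw [ha]; exact one_ne_zero) hxy) 1
    have c2 := sympCenter_add_smul hBs (hiso (b - a) hba0 y hyy) c1 (by
      rw [one_smul, D.lin.add_left, D.B_tens, D.B_tens, hyy, mul_zero, zero_add, D.subR₁, D.h1.alternating,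
        zero_sub]
      exact mul_ne_zero (neg_ne_zero.2 hba) hxy) 1
    rwa [one_smul, one_smul, tens_sub_left, show tens a y + tens b x + (tens b y - tens a y) = tens b x + tens b y
      by abel, ← tens_add_right, show x + y = v by simp [y]] at c2
  intro z
  rw [← sum_tens_slice z]
  induction (Finset.univ : Finset (Fin n)) using Finset.cons_induction with
  | empty => rw [Finset.sum_empty]; exact sympCenter_zero M
  | cons i s hi ih =>
    rw [Finset.sum_cons]
    set x := tens (Pi.single i 1) (slice z i) with hx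
    set y := ∑ i ∈ s, tens (Pi.single i 1) (slice z i)
    have hcx : SympCenter B M x := hpure _ _
    rcases eq_or_ne x 0 with hx0 | hx0
    · rwa [hx0, zero_add]
    rcases eq_or_ne y 0 with hy0 | hy0
    · rwa [hy0, add_zero]
    rcases eq_or_ne (x + y) 0 with hxy0 | hxy0
    · rw [hxy0]; exact sympCenter_zero M
    by_cases hB : B x y = 0
    swap
    · have := sympCenter_add_smul hBs ih hcx hB 1
      rwa [one_smul] at this
    have hphi : ∀ v : Vec, v ≠ 0 → ∃ b, phi f₁ b v ≠ 0 := fun v hv => not_forall.1 fun h => hv (D.phi_ext h)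
    let vv : Fin 3 → Vec := ![x, y, x + y]
    have hvv : ∀ i, vv i ≠ 0 := fun i => by fin_cases i <;> assumption
    choose bb hbb using fun i => hphi _ (hvv i)
    choose ww hww using fun i => Function.ne_iff.1 (hbb i)
    -- a vector of the first factor seeing all three
    let L : Fin 3 → V1 →ₗ[F] F := fun i =>
      { toFun := fun b => phi f₁ b (vv i) (ww i)
        map_add' := fun b c => congrFun (D.phi_addC b c _) _
        map_smul' := fun r b => congrFun (D.phi_smulC r b _) _ }
    obtain ⟨b, hb⟩ := exists_ne_zero₃ hq L fun i e => hww i (LinearMap.congr_fun e (bb i))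
    let L' : Fin 3 → V2 →ₗ[F] F := fun i =>
      { toFun := fun w => f₂ (phi f₁ b (vv i)) w
        map_add' := fun u w => hf.addR _ _ _
        map_smul' := fun r w => hf.smulR _ _ _ }
    obtain ⟨w, hw⟩ := exists_ne_zero₃ hq L' fun i e => hb i (by
      have : phi f₁ b (vv i) = 0 := hf.eq_zero fun u => by rw [hf.comm]; exact LinearMap.congr_fun e u
      exact congrFun this (ww i))
    set p := tens b w
    have hp : ∀ i, B (vv i) p ≠ 0 := fun i => by rw [D.B_tens_right]; exact hw i
    have hyx : B y x = 0 := by rw [D.Bswap, hB, neg_zero]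
    have c1 := sympCenter_add_smul hBs ih (hpure b w) (by rw [D.Bswap, neg_ne_zero]; exact hp 1) 1
    rw [one_smul] at c1
    have c2 := sympCenter_add_smul hBs hcx c1 (by
      rw [D.lin.add_left, hyx, add_zero, D.Bswap, neg_ne_zero]; exact hp 0) 1
    rw [one_smul] at c2
    have c3 := sympCenter_add_smul hBs (hpure b w) c2 (by
      rw [D.lin.add_left, D.lin.add_left, hBs.alternating, zero_add, ← D.lin.add_left, add_comm y x]
      exact hp 2) (-1)
    rwa [neg_one_smul, show p + y + x + -p = x + y by abel] at c3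

end Cfsg.Agent.Lib.GeomSmallSp.OrthThree.Root
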