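import Cfsg.Agent.Lib.GeomSmallSp.OrthThree.Basic
import Cfsg.Agent.Lib.TensorOrthMax.Setup

/-!
Hyperbolic bases and isometries of a three-dimensional symmetric form, moves of the alternating factor.
-/

set_option autoImplicit false

namespace Cfsg.Agent.Lib.GeomSmallSp.OrthThree.Side

open Matrix Kronecker
open Cfsg.Agent.Lib.Subspaces.Transvection Cfsg.Agent.Lib.Subspaces.FormVec
  Cfsg.Agent.Lib.TensorFormMax.Basic
  Cfsg.Agent.Lib.TensorOrthMax.Side Cfsg.Agent.Lib.GeomSmallSp.OrthThree.Basic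
open Cfsg.Agent.Lib.TensorOrthMax.Setup (eN eN_mulVec eN_add eN_zero eN_isometry)

variable {F : Type*} [Field F]

local notation "V2" => Fin 3 → F

/-- A hyperbolic pair and a vector orthogonal to it. -/
structure Hyp (f : (Fin 3 → F) → (Fin 3 → F) → F) (w e w' : Fin 3 → F) : Prop where
  ww : f w w = 0
  vv : f w' w' = 0
  wv : f w w' = 1
  we : f w e = 0
  ve : f w' e = 0
  ee : f e e ≠ 0

theorem exists_avoid [Fintype F] (hq : 5 ≤ Fintype.card F) (S : Finset F) (hS : S.card ≤ 4) :
    ∃ t, t ∉ S := by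
  by_contra h
  push Not at h
  have := Finset.card_le_card (s := Finset.univ) (t := S) fun x _ => h x
  rw [Finset.card_univ] at this
  omega

variable {f : (Fin 3 → F) → (Fin 3 → F) → F} (hf : Sym f)
include hf

namespace Hyp

variable {w e w' : Fin 3 → F} (h : Hyp f w e w')
include h

omit hf in
theorem w_ne (hf : Sym f) : w ≠ 0 := fun e0 => one_ne_zero (by rw [← h.wv, e0, hf.zeroL])

theorem swap : Hyp f w' e w := ⟨h.vv, h.ww, by rw [hf.comm, h.wv], h.ve, h.we, h.ee⟩

theorem expand (z : V2) : z = f z w' • w + (f z e / f e e) • e + f z w • w' := by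
  have hvw : f w' w = 1 := by rw [hf.comm, h.wv]
  let L : V2 →ₗ[F] V2 :=
    { toFun := fun c => c 0 • w + c 1 • e + c 2 • w'
      map_add' := fun c d => by simp only [Pi.add_apply]; module
      map_smul' := fun r c => by simp only [Pi.smul_apply, smul_eq_mul, RingHom.id_apply]; module }
  have hL : ∀ c : V2, f (L c) w' = c 0 ∧ f (L c) e = c 1 * f e e ∧ f (L c) w = c 2 := by
    intro c
    show f (c 0 • w + c 1 • e + c 2 • w') w' = _ ∧ f (c 0 • w + c 1 • e + c 2 • w') e = _ ∧
      f (c 0 • w + c 1 • e + c 2 • w') w = _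
    simp only [hf.addL, hf.smulL, h.ww, h.vv, h.wv, h.we, h.ve, hvw, hf.comm w' e, hf.comm w e]
    exact ⟨by ring, by ring, by ring⟩
  have hinj : Function.Injective L := by
    intro c d hcd
    obtain ⟨a0, a1, a2⟩ := hL c
    rw [hcd, (hL d).1] at a0
    rw [hcd, (hL d).2.1] at a1
    rw [hcd, (hL d).2.2] at a2
    funext i
    fin_cases i
    · exact a0.symm
    · exact (mul_right_cancel₀ h.ee a1).symm
    · exact a2.symm
  obtain ⟨c, rfl⟩ := LinearMap.surjective_of_injective hinj z
  obtain ⟨a0, a1, a2⟩ := hL c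
  rw [a0, a1, a2, mul_div_cancel_right₀ _ h.ee]
  rfl

theorem form_eq (x y : V2) : f x y = f x w' * f y w + f x e * f y e / f e e + f x w * f y w' := by
  conv_lhs => rw [h.expand hf x]
  rw [hf.addL, hf.addL, hf.smulL, hf.smulL, hf.smulL, hf.comm y w, hf.comm y e, hf.comm y w']
  ring

/-- The Eichler transformation fixing `w` with `e ↦ e + r w`. -/
theorem exists_shear (r : F) : ∃ o o' : V2 →ₗ[F] V2, (∀ x y, f (o x) (o y) = f x y) ∧ (∀ x, o' (o x) = x) ∧
    o w = w ∧ o e = e + r • w ∧ o w' = w' - (r / f e e) • e - (r * r / (2 * f e e)) • w := by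
  have hvw : f w' w = 1 := by rw [hf.comm, h.wv]
  have hew : f e w = 0 := by rw [hf.comm, h.we]
  have hz : ∀ t : F, f (t • e) w = 0 := fun t => by rw [hf.smulL, hew, mul_zero]
  set t := r / f e e with ht
  refine ⟨(1 + eN f w (t • e)).mulVecLin, (1 + eN f w ((-t) • e)).mulVecLin,
    eN_isometry hf h.ww (hz t), fun x => ?_, ?_, ?_, ?_⟩
  · simp only [Matrix.mulVecLin_apply, Matrix.mulVec_mulVec]
    rw [eN_add hf h.ww (hz _) (hz _), ← add_smul, neg_add_cancel, zero_smul, eN_zero hf, add_zero, one_mulVec]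
  all_goals
    simp only [Matrix.mulVecLin_apply, add_mulVec, one_mulVec, eN_mulVec hf, hf.smulR, hf.smulL, h.ww, h.we, h.ve,
      hew, hvw, mul_zero, zero_mul, zero_smul, sub_zero, add_zero, zero_sub, mul_one, ht,
      div_mul_cancel₀ r h.ee]
  have h2 := hf.two
  have he := h.ee
  match_scalars <;> field_simp <;> ring

omit hf in
theorem shear {r : F} {o : V2 →ₗ[F] V2} (ho : ∀ x y, f (o x) (o y) = f x y) (h1 : o w = w)
    (h2 : o e = e + r • w) : Hyp f w (e + r • w) (o w') := by
  have e1 := ho w w'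
  have e2 := ho w' w'
  have e3 := ho w' e
  have e4 := ho e e
  have e5 := ho w e
  rw [h1] at e1 e5
  rw [h2] at e3 e4 e5
  exact ⟨h.ww, e2.trans h.vv, e1.trans h.wv, e5.trans h.we, e3.trans h.ve, by rw [e4]; exact h.ee⟩

/-- The torus of the hyperbolic plane. -/
theorem exists_torus {s : F} (hs : s ≠ 0) : ∃ o o' : V2 →ₗ[F] V2, (∀ x y, f (o x) (o y) = f x y) ∧
    (∀ x, o' (o x) = x) ∧ o w = s • w ∧ o e = e ∧ o w' = s⁻¹ • w' := by
  have hvw : f w' w = 1 := by rw [hf.comm, h.wv]
  have hew : f e w = 0 := by rw [hf.comm, h.we]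
  have hev : f e w' = 0 := by rw [hf.comm, h.ve]
  let mk : F → V2 →ₗ[F] V2 := fun s =>
    { toFun := fun z => (s * f z w') • w + (f z e / f e e) • e + (s⁻¹ * f z w) • w'
      map_add' := fun x y => by simp only [hf.addL]; match_scalars <;> ring
      map_smul' := fun c x => by simp only [hf.smulL, RingHom.id_apply]; match_scalars <;> ring }
  have hiso : ∀ x y, f (mk s x) (mk s y) = f x y := fun x y => by
    rw [h.form_eq hf x y]
    show f ((s * f x w') • w + (f x e / f e e) • e + (s⁻¹ * f x w) • w')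
      ((s * f y w') • w + (f y e / f e e) • e + (s⁻¹ * f y w) • w') = _
    simp only [hf.addL, hf.addR, hf.smulL, hf.smulR, h.ww, h.vv, h.wv, h.we, h.ve, hvw, hew, hev]
    have he := h.ee
    field_simp
    ring
  refine ⟨mk s, mk s⁻¹, hiso, fun x => ?_, ?_, ?_, ?_⟩
  · conv_rhs => rw [h.expand hf x]
    show (s⁻¹ * f ((s * f x w') • w + (f x e / f e e) • e + (s⁻¹ * f x w) • w') w') • w +
      (f ((s * f x w') • w + (f x e / f e e) • e + (s⁻¹ * f x w) • w') e / f e e) • e +
      (s⁻¹⁻¹ * f ((s * f x w') • w + (f x e / f e e) • e + (s⁻¹ * f x w) • w') w) • w' = _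
    simp only [hf.addL, hf.smulL, h.ww, h.vv, h.wv, h.we, h.ve, hvw, hew, hev, inv_inv]
    have he := h.ee
    match_scalars <;> field_simp <;> ring
  · show (s * f w w') • w + (f w e / f e e) • e + (s⁻¹ * f w w) • w' = _
    rw [h.wv, h.we, h.ww]; simp
  · show (s * f e w') • w + (f e e / f e e) • e + (s⁻¹ * f e w) • w' = _
    rw [hev, hew, div_self h.ee]; simp
  · show (s * f w' w') • w + (f w' e / f e e) • e + (s⁻¹ * f w' w) • w' = _
    rw [h.vv, h.ve, hvw]; simp

/-- An isotropic vector not orthogonal to a given one. -/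
theorem exists_iso_nonorth {v : V2} (hv : v ≠ 0) : ∃ u, f u u = 0 ∧ f v u ≠ 0 := by
  by_contra hc
  push Not at hc
  obtain ⟨o, o', ho, -, -, -, h3⟩ := h.exists_shear hf 1
  have a1 := hc w h.ww
  have a2 := hc w' h.vv
  have a3 := hc (o w') ((ho w' w').trans h.vv)
  rw [h3, hf.subR, hf.subR, hf.smulR, hf.smulR, a1, a2] at a3
  have a4 : f v e = 0 := by
    have := h.ee
    field_simp at a3
    linear_combination -a3
  exact hv (by rw [h.expand hf v, a1, a2, a4]; simp)

/-- A vector orthogonal to an isotropic `w` lies in the span of `w` and `e`. -/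
theorem perp_eq {z : V2} (hz : f z w = 0) : z = f z w' • w + (f z e / f e e) • e := by
  conv_lhs => rw [h.expand hf z, hz, zero_smul, add_zero]

end Hyp

theorem exists_hyp_of {w : V2} (hw : w ≠ 0) (hww : f w w = 0) [Finite F] : ∃ e w', Hyp f w e w' := by
  obtain ⟨b, hb, hbw⟩ := hf.exists_hyperbolic hw hww
  obtain ⟨e, he, hes⟩ := hf.exists_perp (⊥ : Submodule F V2) ![w, b] (by rw [finrank_bot]; omega)
  have he0 : e ≠ 0 := fun e0 => he (by rw [e0]; exact Submodule.zero_mem _)
  have h1 : f e w = 0 := hes 0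
  have h2 : f e b = 0 := hes 1
  refine ⟨e, b, ⟨hww, hb, by rw [hf.comm, hbw], by rw [hf.comm, h1], by rw [hf.comm, h2], fun hee => ?_⟩⟩
  -- otherwise `e` is in the radical
  have hwb : f w b = 1 := by rw [hf.comm, hbw]
  let T : V2 →ₗ[F] V2 :=
    { toFun := fun c => c 0 • w + c 1 • b + c 2 • e
      map_add' := fun c d => by simp only [Pi.add_apply]; module
      map_smul' := fun r c => by simp only [Pi.smul_apply, smul_eq_mul, RingHom.id_apply]; module }
  have hinj : Function.Injective T := by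
    rw [injective_iff_map_eq_zero]
    intro c hc
    have e1 : f (T c) w = c 1 := by
      show f (c 0 • w + c 1 • b + c 2 • e) w = _
      simp [hf.addL, hf.smulL, hww, hbw, h1]
    have e2 : f (T c) b = c 0 := by
      show f (c 0 • w + c 1 • b + c 2 • e) b = _
      simp [hf.addL, hf.smulL, hwb, hb, h2]
    rw [hc, hf.zeroL] at e1 e2
    have hc' : c 0 • w + c 1 • b + c 2 • e = 0 := hc
    rw [← e1, ← e2, zero_smul, zero_smul, zero_add, zero_add, smul_eq_zero] at hc'
    funext i
    fin_cases i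
    · exact e2.symm
    · exact e1.symm
    · exact hc'.resolve_right he0
  refine he0 (hf.eq_zero fun u => ?_)
  obtain ⟨c, rfl⟩ := LinearMap.surjective_of_injective hinj u
  show f (c 0 • w + c 1 • b + c 2 • e) e = 0
  simp [hf.addL, hf.smulL, hf.comm e w, hf.comm e b, h1, h2, hee]

theorem exists_hyp [Finite F] : ∃ w e w', Hyp f w e w' := by
  obtain ⟨w, hw, hww⟩ := hf.exists_iso (le_refl 3)
  exact ⟨w, exists_hyp_of hf hw hww⟩

/-- Isotropic orthogonal vectors are proportional. -/
theorem iso_prop [Finite F] {w x : V2} (hw : w ≠ 0) (hww : f w w = 0) (hxx : f x x = 0) (hxw : f x w = 0) :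
    ∃ c : F, x = c • w := by
  obtain ⟨e, w', h⟩ := exists_hyp_of hf hw hww
  have he := h.form_eq hf x x
  rw [hxx, hxw] at he
  have hxe : f x e = 0 := by
    have := h.ee
    field_simp at he
    exact mul_self_eq_zero.1 (by linear_combination -he)
  exact ⟨f x w', by conv_lhs => rw [h.perp_eq hf hxw, hxe, zero_div, zero_smul, add_zero]⟩

/-- The reflection in an anisotropic vector. -/
theorem exists_reflection {v : V2} (hv : f v v ≠ 0) : ∃ o : V2 →ₗ[F] V2, (∀ x y, f (o x) (o y) = f x y) ∧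
    (∀ x, o (o x) = x) ∧ ∀ x, o x = x - (2 * f x v / f v v) • v := by
  let o : V2 →ₗ[F] V2 :=
    { toFun := fun x => x - (2 * f x v / f v v) • v
      map_add' := fun x y => by simp only [hf.addL]; match_scalars <;> ring
      map_smul' := fun c x => by simp only [hf.smulL, RingHom.id_apply]; match_scalars <;> ring }
  refine ⟨o, fun x y => ?_, fun x => ?_, fun x => rfl⟩
  · show f (x - (2 * f x v / f v v) • v) (y - (2 * f y v / f v v) • v) = _
    simp only [hf.subL, hf.subR, hf.smulL, hf.smulR, hf.comm y v]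
    field_simp
    ring
  · show (x - (2 * f x v / f v v) • v) - (2 * f (x - (2 * f x v / f v v) • v) v / f v v) • v = x
    rw [hf.subL, hf.smulL]
    match_scalars <;> field_simp <;> ring

end Cfsg.Agent.Lib.GeomSmallSp.OrthThree.Side
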